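import Mathlib
import Cfsg.Agent.Char.Central

/-!
# Weight spaces of commuting families in complex representations (Landazuri–Seitz tools)
-/

set_option autoImplicit false

namespace Cfsg.Agent.Classical.LS

open Module

section family
variable {G V I : Type*} [Group G] [AddCommGroup V] [Module ℂ V] (ρ : Representation ℂ G V)

/-- The simultaneous eigenspace of the family `x` for the eigenvalues `β`. -/
def Wt (x : I → G) (β : I → ℂ) : Submodule ℂ V := ⨅ i, Module.End.eigenspace (ρ (x i)) (β i)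

variable {ρ}

theorem mem_Wt {x : I → G} {β : I → ℂ} {v : V} : v ∈ Wt ρ x β ↔ ∀ i, ρ (x i) v = β i • v := by
  simp [Wt, Submodule.mem_iInf, Module.End.mem_eigenspace_iff]

theorem semisimple [Finite G] (g : G) : Module.End.IsSemisimple (ρ g) := by
  have hn : orderOf g ≠ 0 := (orderOf_pos g).ne'
  refine Module.End.isSemisimple_of_squarefree_aeval_eq_zero
    (p := Polynomial.X ^ orderOf g - Polynomial.C 1) ?_ ?_
  · exact (Polynomial.separable_X_pow_sub_C (1 : ℂ) (by exact_mod_cast hn) one_ne_zero).squarefree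
  · rw [map_sub, map_pow, Polynomial.aeval_X, ← map_pow, pow_orderOf_eq_one]; simp

theorem wt_eq_max [Finite G] (x : I → G) (β : I → ℂ) :
    Wt ρ x β = ⨅ i, Module.End.maxGenEigenspace (ρ (x i)) (β i) := by
  unfold Wt
  congr 1; ext i : 1
  exact ((semisimple (x i)).isFinitelySemisimple.maxGenEigenspace_eq_eigenspace _).symm

theorem commute_of {x : I → G} (hx : ∀ i j, Commute (x i) (x j)) (i j : I) :
    Commute (ρ (x i)) (ρ (x j)) := (hx i j).map ρ

theorem indep [Finite G] {x : I → G} (hx : ∀ i j, Commute (x i) (x j)) : iSupIndep (Wt ρ x) := by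
  have : Wt ρ x = fun β => ⨅ i, Module.End.maxGenEigenspace (ρ (x i)) (β i) := funext (wt_eq_max x)
  rw [this]
  exact Module.End.independent_iInf_maxGenEigenspace_of_forall_mapsTo _
    fun i j φ => Module.End.mapsTo_maxGenEigenspace_of_comm (commute_of hx j i) φ

theorem iSup_eq_top [Finite G] [FiniteDimensional ℂ V] {x : I → G}
    (hx : ∀ i j, Commute (x i) (x j)) : ⨆ β, Wt ρ x β = ⊤ := by
  have : Wt ρ x = fun β => ⨅ i, Module.End.maxGenEigenspace (ρ (x i)) (β i) := funext (wt_eq_max x)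
  rw [this]
  exact Module.End.iSup_iInf_maxGenEigenspace_eq_top_of_iSup_maxGenEigenspace_eq_top_of_commute _
    (fun i j _ => commute_of hx i j) fun i => Module.End.iSup_maxGenEigenspace_eq_top _

theorem sum_finrank_le_of_indep {ι : Type*} [FiniteDimensional ℂ V] {p : ι → Submodule ℂ V}
    (h : iSupIndep p) (S : Finset ι) : ∑ i ∈ S, finrank ℂ (p i) ≤ finrank ℂ V := by
  classical
  suffices H : ∑ i ∈ S, finrank ℂ (p i) = finrank ℂ ↥(⨆ i ∈ S, p i) from
    H ▸ Submodule.finrank_le _
  induction S using Finset.induction_on with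
  | empty => rw [Finset.sum_empty, show (⨆ i ∈ (∅ : Finset ι), p i) = ⊥ by simp, finrank_bot]
  | insert a S ha ih =>
    rw [Finset.sum_insert ha, ih, Finset.iSup_insert,
      ← Submodule.finrank_sup_add_finrank_inf_eq]
    have : p a ⊓ ⨆ i ∈ S, p i = ⊥ := by
      refine (h a).mono_right ?_ |>.eq_bot
      exact iSup₂_le fun i hi => le_iSup₂_of_le i (fun e => ha (e ▸ hi)) le_rfl
    rw [this, finrank_bot, add_zero]

theorem sum_finrank_le [Finite G] [FiniteDimensional ℂ V] {x : I → G}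
    (hx : ∀ i j, Commute (x i) (x j)) (S : Finset (I → ℂ)) :
    ∑ β ∈ S, finrank ℂ (Wt ρ x β) ≤ finrank ℂ V := sum_finrank_le_of_indep (indep hx) S

/-- An indexed version: distinct weights. -/
theorem sum_finrank_le' [Finite G] [FiniteDimensional ℂ V] {x : I → G}
    (hx : ∀ i j, Commute (x i) (x j)) {J : Type*} (S : Finset J) (f : J → I → ℂ)
    (hf : Set.InjOn f S) : ∑ j ∈ S, finrank ℂ (Wt ρ x (f j)) ≤ finrank ℂ V := by
  classical
  rw [← Finset.sum_image (f := fun β => finrank ℂ (Wt ρ x β)) hf]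
  exact sum_finrank_le hx _

theorem card_mul_le [Finite G] [FiniteDimensional ℂ V] {x : I → G}
    (hx : ∀ i j, Commute (x i) (x j)) {J : Type*} (S : Finset J) (f : J → I → ℂ)
    (hf : Set.InjOn f S) {k : ℕ} (hk : ∀ j ∈ S, k ≤ finrank ℂ (Wt ρ x (f j))) :
    S.card * k ≤ finrank ℂ V :=
  le_trans (by simpa using Finset.card_nsmul_le_sum S _ k hk) (sum_finrank_le' (ρ := ρ) hx S f hf)

theorem exists_wt [Finite G] [FiniteDimensional ℂ V] {x : I → G}
    (hx : ∀ i j, Commute (x i) (x j)) {i : I} (hi : ρ (x i) ≠ 1) :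
    ∃ β, β i ≠ 1 ∧ Wt ρ x β ≠ ⊥ := by
  by_contra H
  push Not at H
  apply hi
  ext v
  have hv : v ∈ ⨆ β, Wt ρ x β := (iSup_eq_top (ρ := ρ) hx) ▸ Submodule.mem_top
  have : ⨆ β, Wt ρ x β ≤ Module.End.eigenspace (ρ (x i)) 1 := by
    refine iSup_le fun β => ?_
    by_cases h : β i = 1
    · exact h ▸ iInf_le _ i
    · rw [H β h]; exact bot_le
  simpa [Module.End.mem_eigenspace_iff] using this hv

/-- A submodule stable under the family and moved by one member contains a weight vector. -/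
theorem exists_wt_mem [Finite G] [FiniteDimensional ℂ V] {x : I → G}
    (hx : ∀ i j, Commute (x i) (x j)) (U : Submodule ℂ V) (hU : ∀ i, ∀ v ∈ U, ρ (x i) v ∈ U)
    {i : I} (hi : ∃ v ∈ U, ρ (x i) v ≠ v) :
    ∃ β, β i ≠ 1 ∧ ∃ v ∈ U, v ≠ 0 ∧ v ∈ Wt ρ x β := by
  let H : Subgroup G := Subgroup.closure (Set.range x)
  have hH : ∀ g : H, ∀ v ∈ U, ρ g v ∈ U := by
    rintro ⟨g, hg⟩
    induction hg using Subgroup.closure_induction'' with
    | one => simp
    | mem g hg => obtain ⟨j, rfl⟩ := hg; exact hU j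
    | inv_mem g hg =>
      obtain ⟨j, rfl⟩ := hg
      intro v hv
      have e : (x j)⁻¹ = x j ^ (orderOf (x j) - 1) := by
        rw [inv_eq_iff_mul_eq_one, ← pow_succ', Nat.sub_add_cancel (orderOf_pos _),
          pow_orderOf_eq_one]
      change ρ (x j)⁻¹ v ∈ U
      rw [e]
      generalize orderOf (x j) - 1 = k
      induction k with
      | zero => simpa
      | succ k ih => rw [pow_succ', map_mul]; exact hU j _ ih
    | mul g h _ _ ihg ihh =>
      intro v hv
      change ρ (g * h) v ∈ U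
      rw [map_mul]; exact ihg _ (ihh v hv)
  let τ : Subrepresentation (ρ.comp H.subtype) := ⟨U, fun g v hv => hH g v hv⟩
  let y : I → H := fun j => ⟨x j, Subgroup.subset_closure ⟨j, rfl⟩⟩
  obtain ⟨β, h1, h2⟩ := exists_wt (ρ := τ.toRepresentation) (x := y) (i := i)
    (fun a b => Subtype.ext (hx a b)) (by
      obtain ⟨v, hv, h⟩ := hi
      intro h'
      exact h (congrArg Subtype.val (LinearMap.congr_fun h' ⟨v, hv⟩)))
  obtain ⟨v, hv, hv0⟩ := (Submodule.ne_bot_iff _).1 h2
  exact ⟨β, h1, v, v.2, fun h => hv0 (Subtype.ext h),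
    mem_Wt.2 fun j => congrArg Subtype.val (mem_Wt.1 hv j)⟩

theorem apply_mem_Wt {x : I → G} {β : I → ℂ} {g : G} {π : I → I} (h : ∀ i, x i * g = g * x (π i))
    {v : V} (hv : v ∈ Wt ρ x β) : ρ g v ∈ Wt ρ x (β ∘ π) :=
  mem_Wt.2 fun i => by
    rw [← Module.End.mul_apply, ← map_mul, h, map_mul, Module.End.mul_apply, mem_Wt.1 hv,
      map_smul]; rfl

theorem apply_injective (g : G) : Function.Injective (ρ g) := fun a b h => by
  simpa using congrArg (ρ g⁻¹) h

theorem finrank_le_of_map [FiniteDimensional ℂ V] {U U' : Submodule ℂ V} (g : G)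
    (h : ∀ v ∈ U, ρ g v ∈ U') : finrank ℂ U ≤ finrank ℂ U' :=
  LinearMap.finrank_le_finrank_of_injective (f := (ρ g).restrict h)
    fun a b e => Subtype.ext (apply_injective g (congrArg Subtype.val e))

theorem finrank_Wt_le [FiniteDimensional ℂ V] {x : I → G} {β : I → ℂ} {g : G} {π : I → I}
    (h : ∀ i, x i * g = g * x (π i)) : finrank ℂ (Wt ρ x β) ≤ finrank ℂ (Wt ρ x (β ∘ π)) :=
  finrank_le_of_map g fun _ hv => apply_mem_Wt h hv

theorem Wt_ne_bot {x : I → G} {β : I → ℂ} {g : G} {π : I → I}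
    (h : ∀ i, x i * g = g * x (π i)) (hβ : Wt ρ x β ≠ ⊥) : Wt ρ x (β ∘ π) ≠ ⊥ := by
  obtain ⟨v, hv, hv0⟩ := (Submodule.ne_bot_iff _).1 hβ
  exact (Submodule.ne_bot_iff _).2 ⟨_, apply_mem_Wt h hv,
    fun e => hv0 (apply_injective g (by rw [e, map_zero]))⟩

/-- The eigenvalues are multiplicative along the relations of the family. -/
theorem wt_mul {x : I → G} {β : I → ℂ} (hβ : Wt ρ x β ≠ ⊥) {i j k : I} (h : x i * x j = x k) :
    β i * β j = β k := by
  obtain ⟨v, hv, hv0⟩ := (Submodule.ne_bot_iff _).1 hβ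
  have := mem_Wt.1 hv k
  rw [← h, map_mul, Module.End.mul_apply, mem_Wt.1 hv, map_smul, mem_Wt.1 hv, smul_smul] at this
  exact mul_comm (β i) _ ▸ smul_left_injective ℂ hv0 this

theorem wt_eq {x : I → G} {β : I → ℂ} (hβ : Wt ρ x β ≠ ⊥) {i j : I} (h : x i = x j) :
    β i = β j := by
  obtain ⟨v, hv, hv0⟩ := (Submodule.ne_bot_iff _).1 hβ
  have := mem_Wt.1 hv j
  rw [← h, mem_Wt.1 hv] at this
  exact smul_left_injective ℂ hv0 this

theorem wt_one {x : I → G} {β : I → ℂ} (hβ : Wt ρ x β ≠ ⊥) {i : I} (h : x i = 1) :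
    β i = 1 := by
  obtain ⟨v, hv, hv0⟩ := (Submodule.ne_bot_iff _).1 hβ
  have := mem_Wt.1 hv i
  rw [h, map_one] at this
  exact smul_left_injective ℂ hv0 (by simpa using this.symm)

end family

section heis
variable {H W A : Type*} [Group H] [AddCommGroup W] [Module ℂ W] [FiniteDimensional ℂ W]

/-- Operators of Heisenberg type are linearly independent. -/
theorem heis [Nontrivial W] [Fintype A] (τ : Representation ℂ H W) (t : A → H)
    (h : ∀ a b, a ≠ b → ∃ (s : H) (ω : ℂ), ω ≠ 1 ∧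
      τ (s * ((t b)⁻¹ * t a) * s⁻¹) = ω • τ ((t b)⁻¹ * t a)) :
    Fintype.card A ≤ finrank ℂ W ^ 2 := by
  classical
  have h0 : ∀ a b, a ≠ b → LinearMap.trace ℂ W (τ ((t b)⁻¹ * t a)) = 0 := by
    intro a b hab
    obtain ⟨s, ω, h1, h2⟩ := h a b hab
    have e := τ.char_conj ((t b)⁻¹ * t a) s
    simp only [Representation.character] at e
    rw [h2, map_smul, smul_eq_mul] at e
    have : (ω - 1) * LinearMap.trace ℂ W (τ ((t b)⁻¹ * t a)) = 0 := by linear_combination e
    exact (mul_eq_zero.1 this).resolve_left (sub_ne_zero.2 h1)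
  have li : LinearIndependent ℂ fun a => τ (t a) := by
    rw [Fintype.linearIndependent_iff]
    intro c hc b
    have e := congrArg (fun f => LinearMap.trace ℂ W (τ (t b)⁻¹ * f)) hc
    simp only [Finset.mul_sum, map_sum, mul_smul_comm, map_smul, ← map_mul, mul_zero,
      map_zero] at e
    rw [Finset.sum_eq_single b (fun a _ hab => by rw [h0 a b hab, smul_zero]) (by simp)] at e
    simp only [inv_mul_cancel, map_one, LinearMap.trace_one, smul_eq_mul, mul_eq_zero,
      Nat.cast_eq_zero] at e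
    exact e.resolve_right finrank_pos.ne'
  have := li.fintype_card_le_finrank
  rwa [Module.finrank_linearMap, ← sq] at this

end heis

section irr
variable {G V : Type*} [Group G] [AddCommGroup V] [Module ℂ V] [FiniteDimensional ℂ V]

/-- An irreducible representation of degree at least two is not trivial. -/
theorem nontriv_of_irr (ρ : Representation ℂ G V) (h : ρ.IsIrreducible) (h2 : 2 ≤ finrank ℂ V) :
    ∃ g, ρ g ≠ 1 := by
  by_contra H
  push Not at H
  have : Nontrivial V := Module.nontrivial_of_finrank_pos (R := ℂ) (by omega)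
  obtain ⟨v, hv⟩ := exists_ne (0 : V)
  let U : Subrepresentation ρ := ⟨Submodule.span ℂ {v}, fun g w hw => by rw [H]; exact hw⟩
  rcases h.eq_bot_or_eq_top U with e | e
  · have : U.toSubmodule = ⊥ := congrArg _ e
    exact hv (Submodule.span_singleton_eq_bot.1 this)
  · have e' : Submodule.span ℂ {v} = ⊤ := congrArg Subrepresentation.toSubmodule e
    have := finrank_span_singleton (K := ℂ) hv
    rw [e', finrank_top] at this
    omega

omit [FiniteDimensional ℂ V] in
theorem eq_one_of_isCompl {ρ : Representation ℂ G V} {U W : Submodule ℂ V} (h : IsCompl U W)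
    {g : G} (hU : ∀ v ∈ U, ρ g v = v) (hW : ∀ v ∈ W, ρ g v = v) : ρ g = 1 := by
  ext v
  have hv : v ∈ U ⊔ W := h.sup_eq_top ▸ Submodule.mem_top
  obtain ⟨a, ha, b, hb, rfl⟩ := Submodule.mem_sup.1 hv
  simp [hU a ha, hW b hb]

/-- A non-trivial representation is irreducible if all smaller ones are trivial. -/
theorem irr_of_small [Finite G] (ρ : Representation ℂ G V) (h : ∃ g, ρ g ≠ 1)
    (hs : ∀ U : Subrepresentation ρ, finrank ℂ U.toSubmodule < finrank ℂ V →
      ∀ g, U.toRepresentation g = 1) : ρ.IsIrreducible := by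
  obtain ⟨g, hg⟩ := h
  have hne : (⊥ : Subrepresentation ρ) ≠ ⊤ := by
    intro e
    have e' : (⊥ : Submodule ℂ V) = ⊤ := congrArg Subrepresentation.toSubmodule e
    apply hg; ext v
    have : v ∈ (⊥ : Submodule ℂ V) := e' ▸ Submodule.mem_top
    rw [(Submodule.mem_bot ℂ).1 this]; simp
  have : Nontrivial (Subrepresentation ρ) := ⟨⊥, ⊤, hne⟩
  refine ⟨fun U => ?_⟩
  by_contra H
  push Not at H
  obtain ⟨W, hW⟩ := Char.exists_isCompl U
  have h1 : U.toSubmodule ≠ ⊥ := fun e => H.1 (Subrepresentation.toSubmodule_injective e)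
  have h2 : U.toSubmodule ≠ ⊤ := fun e => H.2 (Subrepresentation.toSubmodule_injective e)
  have h3 : W.toSubmodule ≠ ⊤ := fun e => h1 (by have := hW.inf_eq_bot; rwa [e, inf_top_eq] at this)
  exact hg (eq_one_of_isCompl hW
    (fun v hv => congrArg Subtype.val (LinearMap.congr_fun (hs U (Submodule.finrank_lt h2) g) ⟨v, hv⟩))
    (fun v hv => congrArg Subtype.val (LinearMap.congr_fun (hs W (Submodule.finrank_lt h3) g) ⟨v, hv⟩)))

universe u in
/-- A lower bound for non-trivial irreducible representations holds for all non-trivial ones. -/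
theorem le_of_irr [Finite G] {d : ℕ}
    (h : ∀ (W : Type u) [AddCommGroup W] [Module ℂ W] [FiniteDimensional ℂ W]
      (τ : Representation ℂ G W), τ.IsIrreducible → (∃ g, τ g ≠ 1) → d ≤ finrank ℂ W)
    (W : Type u) [AddCommGroup W] [Module ℂ W] [FiniteDimensional ℂ W]
    (τ : Representation ℂ G W) (hτ : ∃ g, τ g ≠ 1) : d ≤ finrank ℂ W := by
  induction hn : finrank ℂ W using Nat.strongRecOn generalizing W with
  | ind n ih =>
  subst hn
  by_contra hlt
  refine hlt (h W τ (irr_of_small τ hτ fun U hU g => ?_) hτ)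
  by_contra hg
  exact hlt ((ih _ hU U.toSubmodule U.toRepresentation ⟨g, hg⟩ rfl).trans hU.le)

/-- Transport of an irreducible representation to a coordinate space. -/
theorem exists_fin (ρ : Representation ℂ G V) (h : ρ.IsIrreducible) {d : ℕ} (hd : finrank ℂ V = d) :
    ∃ τ : Representation ℂ G (Fin d → ℂ), τ.IsIrreducible := by
  subst hd
  exact ⟨Char.transportRep ρ (Module.finBasis ℂ V).equivFun,
    Char.isIrreducible_of_equiv (Char.transportEquiv ρ _)⟩

omit [FiniteDimensional ℂ V] in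
/-- The kernel of a representation as a subgroup. -/
theorem triv_of_closure (ρ : Representation ℂ G V) {s : Set G} (hs : Subgroup.closure s = ⊤)
    (h : ∀ g ∈ s, ρ g = 1) (g : G) : ρ g = 1 := by
  have hg : g ∈ Subgroup.closure s := hs ▸ Subgroup.mem_top g
  induction hg using Subgroup.closure_induction with
  | mem g hg => exact h g hg
  | one => simp
  | mul a b _ _ ha hb => rw [map_mul, ha, hb, mul_one]
  | inv a _ ha => rw [← mul_one (ρ a⁻¹), ← ha, ← map_mul, inv_mul_cancel, map_one, ha]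

omit [FiniteDimensional ℂ V] in
theorem conj_eq_one (ρ : Representation ℂ G V) {g : G} (h : ρ g = 1) (s : G) :
    ρ (s * g * s⁻¹) = 1 := by
  rw [map_mul, map_mul, h, mul_one, ← map_mul, mul_inv_cancel, map_one]

end irr

section proj
variable {G V A : Type*} [Group G] [AddCommGroup V] [Module ℂ V] [AddCommGroup A] [Fintype A]
  (ρ : Representation ℂ G V) (x : A → G)

/-- The projector onto a weight space of an abelian group. -/
noncomputable def P (l : AddChar A ℂ) : Module.End ℂ V :=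
  (Fintype.card A : ℂ)⁻¹ • ∑ a, l (-a) • ρ (x a)

variable {ρ x} (hx : ∀ a b, x (a + b) = x a * x b)
include hx

omit [Fintype A] in
theorem x_zero : x 0 = 1 := by simpa using hx 0 0

omit [Fintype A] in
theorem x_comm (a b : A) : Commute (x a) (x b) := by
  rw [Commute, SemiconjBy, ← hx, ← hx, add_comm]

theorem sum_P : ∑ l : AddChar A ℂ, P ρ x l = 1 := by
  classical
  simp only [P, ← Finset.smul_sum]
  rw [Finset.sum_comm]
  simp only [← Finset.sum_smul, AddChar.sum_apply_eq_ite, neg_eq_zero]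
  rw [Finset.sum_eq_single 0 (fun b _ hb => by simp [hb]) (by simp)]
  simp [x_zero hx, smul_smul]

theorem P_mem (l : AddChar A ℂ) (v : V) : P ρ x l v ∈ Wt ρ x l := by
  refine mem_Wt.2 fun b => ?_
  simp only [P, LinearMap.smul_apply, LinearMap.sum_apply, map_smul, map_sum]
  rw [smul_comm]
  congr 1
  rw [Finset.smul_sum, ← Equiv.sum_comp (Equiv.addLeft b) (fun a => l b • l (-a) • ρ (x a) v)]
  refine Finset.sum_congr rfl fun a _ => ?_
  rw [Equiv.coe_addLeft]
  dsimp only
  rw [hx, map_mul, Module.End.mul_apply, smul_smul, ← AddChar.map_add_eq_mul,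
    show b + -(b + a) = -a by abel]

omit hx in
theorem P_apply {l m : AddChar A ℂ} {v : V} (hv : v ∈ Wt ρ x m) [Decidable (l = m)] :
    P ρ x l v = if l = m then v else 0 := by
  classical
  simp only [P, LinearMap.smul_apply, LinearMap.sum_apply, mem_Wt.1 hv, smul_smul,
    ← Finset.sum_smul]
  have e : ∀ a, l (-a) * m a = (m - l) a := fun a => by
    rw [AddChar.sub_apply, mul_comm]
  simp only [e, AddChar.sum_eq_ite, sub_eq_zero, eq_comm (a := m)]
  split_ifs <;> simp

variable [FiniteDimensional ℂ V]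

theorem trace_P (l : AddChar A ℂ) : LinearMap.trace ℂ V (P ρ x l) = finrank ℂ (Wt ρ x l) := by
  classical
  exact LinearMap.IsProj.trace ⟨P_mem hx l, fun v hv => by rw [P_apply hv, if_pos rfl]⟩

omit [FiniteDimensional ℂ V] in
theorem P_mul_P (l : AddChar A ℂ) : P ρ x l * P ρ x l = P ρ x l := by
  classical
  ext v
  rw [Module.End.mul_apply, P_apply (P_mem hx l v), if_pos rfl]

theorem trace_eq_sum (f : Module.End ℂ V) :
    LinearMap.trace ℂ V f = ∑ l : AddChar A ℂ, LinearMap.trace ℂ V (f * P ρ x l) := by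
  rw [← map_sum, ← Finset.mul_sum, sum_P hx, mul_one]

theorem finrank_eq_sum : finrank ℂ V = ∑ l : AddChar A ℂ, finrank ℂ (Wt ρ x l) := by
  have := trace_eq_sum (ρ := ρ) hx 1
  simp only [one_mul, trace_P hx, LinearMap.trace_one] at this
  exact_mod_cast this

theorem trace_mul_P_of_ne {f : Module.End ℂ V} {l m : AddChar A ℂ} (h : l ≠ m)
    (hf : ∀ v ∈ Wt ρ x l, f v ∈ Wt ρ x m) : LinearMap.trace ℂ V (f * P ρ x l) = 0 := by
  classical
  rw [← P_mul_P hx, ← mul_assoc, LinearMap.trace_mul_comm]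
  have : P ρ x l * (f * P ρ x l) = 0 := by
    ext v
    simp only [Module.End.mul_apply]
    rw [P_apply (hf _ (P_mem hx l v)), if_neg h]; rfl
  rw [this, map_zero]

theorem trace_mul_P_of_smul {f : Module.End ℂ V} {l : AddChar A ℂ} {c : ℂ}
    (hf : ∀ v ∈ Wt ρ x l, f v = c • v) :
    LinearMap.trace ℂ V (f * P ρ x l) = c * finrank ℂ (Wt ρ x l) := by
  have : f * P ρ x l = c • P ρ x l := by
    ext v; exact hf _ (P_mem hx l v)
  rw [this, map_smul, trace_P hx, smul_eq_mul]

theorem trace_mul_P_restrict {f : Module.End ℂ V} {l : AddChar A ℂ}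
    (hf : ∀ v ∈ Wt ρ x l, f v ∈ Wt ρ x l) :
    LinearMap.trace ℂ V (f * P ρ x l) = LinearMap.trace ℂ _ (f.restrict hf) := by
  classical
  let π : V →ₗ[ℂ] Wt ρ x l := (P ρ x l).codRestrict _ (P_mem hx l)
  have e1 : f * P ρ x l = (Wt ρ x l).subtype ∘ₗ (f.restrict hf ∘ₗ π) := by ext v; rfl
  have e2 : π ∘ₗ (Wt ρ x l).subtype = LinearMap.id := by
    ext v
    change P ρ x l v = v
    rw [P_apply v.2, if_pos rfl]
  rw [e1, LinearMap.trace_comp_comm', LinearMap.comp_assoc, e2, LinearMap.comp_id]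

end proj

section chars
variable {F : Type*} [Field F] [Fintype F]

/-- A fixed non-trivial additive character. -/
noncomputable def ψ (F : Type*) [Field F] [Fintype F] : AddChar F ℂ :=
  AddChar.FiniteField.primitiveChar_to_Complex F

theorem ψ_prim : (ψ F).IsPrimitive := AddChar.FiniteField.primitiveChar_to_Complex_isPrimitive F

theorem eq_zero_of_ψ {a : F} (h : ∀ b, ψ F (a * b) = 1) : a = 0 := by
  by_contra ha
  exact ψ_prim ha (by ext b; simpa using h b)

theorem eq_of_ψ {a a' : F} (h : ∀ b, ψ F (a * b) = ψ F (a' * b)) : a = a' :=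
  AddChar.to_mulShift_inj_of_isPrimitive ψ_prim (by ext b; simpa using h b)

theorem exists_ψ_ne {a : F} (ha : a ≠ 0) : ∃ b, ψ F (a * b) ≠ 1 := by
  by_contra h; push Not at h; exact ha (eq_zero_of_ψ h)

theorem exists_eq_ψ (l : AddChar F ℂ) : ∃ a, ∀ b, l b = ψ F (a * b) := by
  have hb : Function.Bijective fun a => (ψ F).mulShift a := by
    rw [Fintype.bijective_iff_injective_and_card]
    exact ⟨AddChar.to_mulShift_inj_of_isPrimitive ψ_prim, AddChar.card_eq.symm⟩
  obtain ⟨a, ha⟩ := hb.2 l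
  exact ⟨a, fun b => by rw [← ha]; simp⟩

theorem exists_eq_ψ' (l : F → ℂ) (h0 : l 0 = 1) (h : ∀ a b, l (a + b) = l a * l b) :
    ∃ a, ∀ b, l b = ψ F (a * b) :=
  exists_eq_ψ ⟨l, h0, h⟩

theorem ψ_add (a b : F) : ψ F (a + b) = ψ F a * ψ F b := AddChar.map_add_eq_mul _ _ _

end chars

end Cfsg.Agent.Classical.LS
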