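import Mathlib

/-! The fundamental theorem of projective geometry (after Faure). -/

set_option autoImplicit false

namespace Cfsg.Agent.Classical.FTPG

variable {K F V W : Type*} [Field K] [Field F] [AddCommGroup V] [Module K V] [AddCommGroup W]
  [Module F W]

variable (K) in
/-- `w` lies in the span of `u` and `v`. -/
def Sp (u v w : V) : Prop := ∃ a b : K, w = a • u + b • v

variable (K) in
/-- Two independent vectors. -/
def Ind2 (x y : V) : Prop := ∀ a b : K, a • x + b • y = 0 → a = 0 ∧ b = 0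

variable (K) in
/-- Three independent vectors. -/
def Ind3 (x y z : V) : Prop := ∀ a b c : K, a • x + b • y + c • z = 0 → a = 0 ∧ b = 0 ∧ c = 0

theorem Ind2.symm {x y : V} (h : Ind2 K x y) : Ind2 K y x := fun a b e =>
  (h b a (by rw [add_comm, e])).symm

theorem Ind2.left {x y : V} (h : Ind2 K x y) : x ≠ 0 := by
  rintro rfl; simpa using (h 1 0 (by simp)).1

theorem Ind2.right {x y : V} (h : Ind2 K x y) : y ≠ 0 := h.symm.left

theorem Ind2.add_ne {x y : V} (h : Ind2 K x y) : x + y ≠ 0 := fun e => by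
  simpa using (h 1 1 (by simpa using e)).1

theorem Ind3.swap {x y z : V} (h : Ind3 K x y z) : Ind3 K y x z := fun a b c e => by
  have := h b a c (by rw [add_comm (b • x), e]); tauto

theorem Ind3.swap' {x y z : V} (h : Ind3 K x y z) : Ind3 K x z y := fun a b c e => by
  have := h a c b (by rw [add_right_comm, e]); tauto

theorem Ind3.ind2 {x y z : V} (h : Ind3 K x y z) : Ind2 K x y := fun a b e => by
  have := h a b 0 (by simpa using e); tauto

theorem Ind3.not_sp {x y z : V} (h : Ind3 K x y z) : ¬ Sp K x y z := fun ⟨a, b, e⟩ => by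
  simpa using (h a b (-1) (by rw [e]; module)).2.2

theorem Ind2.ind3 {x y z : V} (h : Ind2 K x y) (h' : ¬ Sp K x y z) : Ind3 K x y z := by
  intro a b c e
  have hc : c = 0 := by
    by_contra hc
    refine h' ⟨-(c⁻¹ * a), -(c⁻¹ * b), ?_⟩
    rw [← one_smul K z, ← inv_mul_cancel₀ hc, mul_smul, eq_neg_of_add_eq_zero_right e]
    module
  have := h a b (by simpa [hc] using e)
  tauto

theorem ind2_of_not {x y : V} (hx : x ≠ 0) (h : ¬ ∃ c : K, y = c • x) : Ind2 K x y := by
  intro a b e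
  have hb : b = 0 := by
    by_contra hb
    refine h ⟨-(b⁻¹ * a), ?_⟩
    rw [← one_smul K y, ← inv_mul_cancel₀ hb, mul_smul, eq_neg_of_add_eq_zero_right e]
    module
  exact ⟨by simpa [hb, hx] using e, hb⟩

theorem Ind3.exists_not_sp {a b c : V} (h : Ind3 K a b c) (x y : V) :
    ¬ Sp K x y a ∨ ¬ Sp K x y b ∨ ¬ Sp K x y c := by
  by_contra hc
  push Not at hc
  obtain ⟨⟨a1, a2, rfl⟩, ⟨b1, b2, rfl⟩, ⟨c1, c2, rfl⟩⟩ := hc
  obtain ⟨h1, h2, h3⟩ := h (b1 * c2 - b2 * c1) (c1 * a2 - c2 * a1) (a1 * b2 - a2 * b1) (by module)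
  have h4 := (h b1 (-a1) 0 (by linear_combination (norm := module) -h3 • y)).2.1
  have h5 := (h b2 (-a2) 0 (by linear_combination (norm := module) h3 • x)).2.1
  exact h.ind2.left (by simp [neg_eq_zero.1 h4, neg_eq_zero.1 h5])

theorem Ind3.exists_ind2 {a b c : V} (h : Ind3 K a b c) {x y : V} (hx : x ≠ 0) (hy : y ≠ 0) :
    ∃ z, Ind2 K x z ∧ Ind2 K y z := by
  have key : ∀ z, ¬ Sp K x y z → Ind2 K x z ∧ Ind2 K y z := fun z hz =>
    ⟨ind2_of_not hx fun ⟨c, e⟩ => hz ⟨c, 0, by simp [e]⟩,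
      ind2_of_not hy fun ⟨c, e⟩ => hz ⟨0, c, by simp [e]⟩⟩
  rcases h.exists_not_sp x y with h | h | h <;> exact ⟨_, key _ h⟩

section

variable (F) in
/-- `X` represents the image of the point `x`. -/
def Rep (f : V → W) (x : V) (X : W) : Prop := x ≠ 0 ∧ ∃ c : F, c ≠ 0 ∧ f x = c • X

variable {f : V → W} (h0 : ∀ v, v ≠ 0 → f v ≠ 0)
  (hf : ∀ u v w, u ≠ 0 → v ≠ 0 → w ≠ 0 → (Sp K u v w ↔ Sp F (f u) (f v) (f w)))

theorem rep_self {x : V} (hx : x ≠ 0) : Rep F f x (f x) := ⟨hx, 1, one_ne_zero, (one_smul _ _).symm⟩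

theorem Rep.smul {x : V} {X : W} (h : Rep F f x X) {c : F} (hc : c ≠ 0) : Rep F f x (c • X) := by
  obtain ⟨hx, d, hd, e⟩ := h
  exact ⟨hx, d * c⁻¹, by simp [hd, hc], by rw [e, smul_smul, inv_mul_cancel_right₀ hc]⟩

theorem Rep.exists_smul {x : V} {X X' : W} (h : Rep F f x X) (h' : Rep F f x X') :
    ∃ c : F, X' = c • X := by
  obtain ⟨-, d, hd, e⟩ := h
  obtain ⟨-, d', hd', e'⟩ := h'
  exact ⟨d'⁻¹ * d, by rw [mul_smul, ← e, e', smul_smul, inv_mul_cancel₀ hd', one_smul]⟩

include h0 in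
theorem Rep.of_smul {x : V} {X : W} (hx : x ≠ 0) {c : F} (h : f x = c • X) : Rep F f x X :=
  ⟨hx, c, by rintro rfl; exact h0 x hx (by simpa using h), h⟩

include hf

theorem sp_iff {u v w : V} {U V' W' : W} (hu : Rep F f u U) (hv : Rep F f v V')
    (hw : Rep F f w W') : Sp K u v w ↔ Sp F U V' W' := by
  obtain ⟨hu, a, ha, e1⟩ := hu
  obtain ⟨hv, b, hb, e2⟩ := hv
  obtain ⟨hw, c, hc, e3⟩ := hw
  rw [hf u v w hu hv hw, e1, e2, e3]
  constructor
  · rintro ⟨s, t, e⟩
    refine ⟨c⁻¹ * (s * a), c⁻¹ * (t * b), ?_⟩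
    rw [← one_smul F W', ← inv_mul_cancel₀ hc, mul_smul, e]; module
  · rintro ⟨s, t, rfl⟩
    refine ⟨c * s / a, c * t / b, ?_⟩
    rw [smul_smul, smul_smul, div_mul_cancel₀ _ ha, div_mul_cancel₀ _ hb]; module

include h0 in
theorem Ind2.rep {x y : V} {X Y : W} (h : Ind2 K x y) (hx : Rep F f x X) (hy : Rep F f y Y) :
    Ind2 F X Y := by
  refine ind2_of_not ?_ fun ⟨c, e⟩ => ?_
  · rintro rfl
    obtain ⟨h1, c, -, e⟩ := hx
    exact h0 x h1 (by simpa using e)
  · obtain ⟨a, b, e⟩ := (sp_iff hf hx hx hy).2 ⟨c, 0, by simp [e]⟩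
    simpa using (h (a + b) (-1) (by rw [e]; module)).2

include h0 in
theorem Ind3.rep {x y z : V} {X Y Z : W} (h : Ind3 K x y z) (hx : Rep F f x X) (hy : Rep F f y Y)
    (hz : Rep F f z Z) : Ind3 F X Y Z :=
  (h.ind2.rep h0 hf hx hy).ind3 fun e => h.not_sp ((sp_iff hf hx hy hz).2 e)

include h0 in
theorem exists_comp {a x : V} {A : W} (h : Ind2 K a x) (ha : Rep F f a A) :
    ∃ X, Rep F f x X ∧ Rep F f (a + x) (A + X) := by
  have hx : Rep F f x (f x) := rep_self h.right
  have hs : Rep F f (a + x) (f (a + x)) := rep_self h.add_ne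
  obtain ⟨s, t, e⟩ := (sp_iff hf ha hx hs).1 ⟨1, 1, by simp⟩
  have h1 : s ≠ 0 := by
    rintro rfl
    obtain ⟨b, c, e'⟩ := (sp_iff hf hx hx hs).2 ⟨0, t, by simpa using e⟩
    simpa using (h 1 (1 - b - c) (by linear_combination (norm := module) e')).1
  have h2 : t ≠ 0 := by
    rintro rfl
    obtain ⟨b, c, e'⟩ := (sp_iff hf ha ha hs).2 ⟨s, 0, by simpa using e⟩
    simpa using (h (1 - b - c) 1 (by linear_combination (norm := module) e')).2
  exact ⟨(s⁻¹ * t) • f x, hx.smul (by simp [h1, h2]), Rep.of_smul h0 h.add_ne (c := s) (by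
    rw [e, smul_add, smul_smul, mul_inv_cancel_left₀ h1])⟩

include h0 in
theorem comp_unique {a x : V} {A X X' : W} (h : Ind2 K a x) (ha : Rep F f a A) (hx : Rep F f x X)
    (hx' : Rep F f x X') (e : Rep F f (a + x) (A + X)) (e' : Rep F f (a + x) (A + X')) :
    X' = X := by
  obtain ⟨c, rfl⟩ := hx.exists_smul hx'
  obtain ⟨d, hd⟩ := e.exists_smul e'
  obtain ⟨h1, h2⟩ := h.rep h0 hf ha hx (1 - d) (c - d) (by linear_combination (norm := module) hd)
  rw [show c = 1 by linear_combination h2 - h1, one_smul]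

include h0 in
theorem comp_add {a x y : V} {A X Y : W} (h : Ind3 K a x y) (ha : Rep F f a A) (hx : Rep F f x X)
    (hy : Rep F f y Y) (e : Rep F f (a + x) (A + X)) (e' : Rep F f (a + y) (A + Y)) :
    Rep F f (a + (x + y)) (A + (X + Y)) ∧ Rep F f (x + y) (X + Y) := by
  have hI := h.rep h0 hf ha hx hy
  have h1 : a + (x + y) ≠ 0 := fun e => by simpa using (h 1 1 1 (by simpa [add_assoc] using e)).1
  have h2 : x + y ≠ 0 := h.swap.swap'.ind2.add_ne
  have h3 : Rep F f (a + (x + y)) (A + (X + Y)) := by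
    obtain ⟨s, t, e1⟩ := (sp_iff hf e hy (rep_self h1)).1 ⟨1, 1, by simp [add_assoc]⟩
    obtain ⟨s', t', e2⟩ := (sp_iff hf e' hx (rep_self h1)).1 ⟨1, 1, by module⟩
    obtain ⟨h4, -, h5⟩ := hI (s - s') (s - t') (t - s') (by linear_combination (norm := module) e2 - e1)
    refine Rep.of_smul h0 h1 (c := s) ?_
    rw [e1, show t = s by linear_combination h5 - h4]; module
  refine ⟨h3, ?_⟩
  obtain ⟨s, t, e1⟩ := (sp_iff hf hx hy (rep_self h2)).1 ⟨1, 1, by simp⟩
  obtain ⟨s', t', e2⟩ := (sp_iff hf h3 ha (rep_self h2)).1 ⟨1, -1, by module⟩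
  obtain ⟨-, h4, h5⟩ := hI (s' + t') (s' - s) (s' - t) (by linear_combination (norm := module) e1 - e2)
  refine Rep.of_smul h0 h2 (c := s) ?_
  rw [e1, show t = s by linear_combination h4 - h5]; module

include h0 in
theorem comp_move {a b c x : V} {A B C X : W} (h : Ind3 K a b c) (ha : Rep F f a A)
    (hb : Rep F f b B) (hc : Rep F f c C) (hab : Rep F f (a + b) (A + B))
    (hac : Rep F f (a + c) (A + C)) (hx : Rep F f x X) (hax : Ind2 K a x) (hbx : Ind2 K b x)
    (e : Rep F f (a + x) (A + X)) : Rep F f (b + x) (B + X) := by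
  by_cases h1 : Sp K a b x
  · obtain ⟨s, t, rfl⟩ := h1
    have hs : s ≠ 0 := by rintro rfl; simpa using (hbx t (-1) (by simp)).2
    have ht : t ≠ 0 := by rintro rfl; simpa using (hax s (-1) (by simp)).2
    have hcb := (comp_add h0 hf h.swap' ha hc hb hac hab).2
    have hcx := (comp_add h0 hf (a := a) (x := c) (y := s • a + t • b) (fun p q r e => by
      obtain ⟨h1, h2, h3⟩ := h (p + r * s) (r * t) q (by linear_combination (norm := module) e)
      have : r = 0 := by simpa [ht] using h2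
      exact ⟨by simpa [this] using h1, h3, this⟩) ha hc hx hac e).2
    exact (comp_add h0 hf (a := c) (x := b) (y := s • a + t • b) (fun p q r e => by
      obtain ⟨h1, h2, h3⟩ := h (r * s) (q + r * t) p (by linear_combination (norm := module) e)
      have : r = 0 := by simpa [hs] using h1
      exact ⟨h3, by simpa [this] using h2, this⟩) hc hb hx hcb hcx).2
  · exact (comp_add h0 hf (h.ind2.ind3 h1) ha hb hx hab e).2

include h0 in
theorem exists_additive {a b c : V} (h : Ind3 K a b c) :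
    ∃ T : V →+ W, ∀ x, x ≠ 0 → Rep F f x (T x) := by
  classical
  have ha : Rep F f a (f a) := rep_self h.ind2.left
  obtain ⟨B, hb, hab⟩ := exists_comp h0 hf h.ind2 ha
  obtain ⟨C, hc, hac⟩ := exists_comp h0 hf h.swap'.ind2 ha
  have hbc := (comp_add h0 hf h ha hb hc hab hac).2
  have hba : Rep F f (b + a) (B + f a) := by rwa [add_comm b, add_comm B]
  have H : ∀ x, x ≠ 0 → ∃ X, Rep F f x X ∧ (Ind2 K a x → Rep F f (a + x) (f a + X)) ∧
      (Ind2 K b x → Rep F f (b + x) (B + X)) ∧ (Ind2 K c x → Rep F f (c + x) (C + X)) := by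
    intro x hx
    by_cases h1 : Ind2 K a x
    · obtain ⟨X, hX, e⟩ := exists_comp h0 hf h1 ha
      exact ⟨X, hX, fun _ => e, fun h2 => comp_move h0 hf h ha hb hc hab hac hX h1 h2 e,
        fun h2 => comp_move h0 hf h.swap' ha hc hb hac hab hX h1 h2 e⟩
    · have h2 : Ind2 K b x := by
        obtain ⟨s, rfl⟩ : ∃ s : K, x = s • a := by
          by_contra h2; exact h1 (ind2_of_not h.ind2.left h2)
        intro p q e
        obtain ⟨h3, h4⟩ := h.ind2 (q * s) p (by linear_combination (norm := module) e)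
        exact ⟨h4, by simpa [left_ne_zero_of_smul hx] using h3⟩
      obtain ⟨X, hX, e⟩ := exists_comp h0 hf h2 hb
      exact ⟨X, hX, fun h3 => absurd h3 h1, fun _ => e,
        fun h3 => comp_move h0 hf h.swap.swap' hb hc ha hbc hba hX h2 h3 e⟩
  choose! T0 hT hTa hTb hTc using H
  let T : V → W := fun x => if x = 0 then 0 else T0 x
  have hT0 : ∀ x, x ≠ 0 → T x = T0 x := fun x hx => if_neg hx
  have h1 : ∀ x y, Ind2 K x y → T (x + y) = T x + T y := by
    intro x y hxy
    rw [hT0 _ hxy.left, hT0 _ hxy.right, hT0 _ hxy.add_ne]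
    have key : ∀ (d : V) (D : W), Rep F f d D → (∀ x, x ≠ 0 → Ind2 K d x →
        Rep F f (d + x) (D + T0 x)) → ¬ Sp K x y d → T0 (x + y) = T0 x + T0 y := by
      intro d D hd hD hs
      have h3 := (hxy.ind3 hs).swap'.swap
      obtain ⟨h4, h5⟩ := comp_add h0 hf h3 hd (hT x hxy.left) (hT y hxy.right)
        (hD x hxy.left h3.ind2) (hD y hxy.right h3.swap'.ind2)
      have h6 : Ind2 K d (x + y) := fun p q e => by
        have := h3 p q q (by linear_combination (norm := module) e); tauto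
      exact comp_unique h0 hf h6 hd h5 (hT _ hxy.add_ne) h4 (hD _ hxy.add_ne h6)
    rcases h.exists_not_sp x y with h2 | h2 | h2
    exacts [key a _ ha hTa h2, key b _ hb hTb h2, key c _ hc hTc h2]
  refine ⟨AddMonoidHom.mk' T fun x y => ?_, fun x hx => by
    change Rep F f x (T x); rw [hT0 x hx]; exact hT x hx⟩
  by_cases hx : x = 0
  · simp [hx, T]
  by_cases hy : y = 0
  · simp [hy, T]
  by_cases hxy : ∃ s : K, y = s • x
  · obtain ⟨s, rfl⟩ := hxy
    obtain ⟨z, hz, hz'⟩ := h.exists_ind2 hx hy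
    have h2 : T (x + s • x + z) = T (x + s • x) + T z := by
      by_cases h3 : x + s • x = 0
      · simp [h3, T]
      · refine h1 _ _ fun p q e => ?_
        obtain ⟨h4, h5⟩ := hz (p * (1 + s)) q (by linear_combination (norm := module) e)
        refine ⟨(mul_eq_zero.1 h4).resolve_right fun h6 => h3 ?_, h5⟩
        linear_combination (norm := module) h6 • x
    rw [add_assoc, h1 x _ (fun p q e => by
      obtain ⟨h4, h5⟩ := hz (p + q * s) q (by linear_combination (norm := module) e)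
      exact ⟨by simpa [h5] using h4, h5⟩), h1 _ _ hz', ← add_assoc] at h2
    exact (add_right_cancel h2).symm
  · exact h1 x y (ind2_of_not hx hxy)

include h0 in
/-- **Fundamental theorem of projective geometry.** -/
theorem exists_semilinear {a b c : V} (h : Ind3 K a b c) :
    ∃ (σ : K →+* F) (T : V →ₛₗ[σ] W), ∀ x, x ≠ 0 → ∃ c : F, c ≠ 0 ∧ f x = c • T x := by
  obtain ⟨T, hT⟩ := exists_additive h0 hf h
  have hT0 : ∀ x, x ≠ 0 → T x ≠ 0 := fun x hx e => by
    obtain ⟨-, c, -, e'⟩ := hT x hx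
    exact h0 x hx (by rw [e', e, smul_zero])
  have H : ∀ (s : K) x, x ≠ 0 → ∃ t : F, T (s • x) = t • T x := fun s x hx => by
    by_cases hs : s = 0
    · exact ⟨0, by simp [hs]⟩
    · obtain ⟨p, q, e⟩ := (sp_iff hf (hT x hx) (hT x hx) (hT _ (smul_ne_zero hs hx))).1
        ⟨s, 0, by simp⟩
      exact ⟨p + q, by rw [e, add_smul]⟩
  choose! s hs using H
  have h1 : ∀ t x y, Ind2 K x y → s t x = s t y := fun t x y hxy => by
    have e := hs t _ hxy.add_ne
    rw [smul_add, map_add, map_add, hs t x hxy.left, hs t y hxy.right] at e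
    obtain ⟨h2, h3⟩ := hxy.rep h0 hf (hT x hxy.left) (hT y hxy.right) (s t x - s t (x + y))
      (s t y - s t (x + y)) (by linear_combination (norm := module) e)
    linear_combination h2 - h3
  have ha := h.ind2.left
  have h2 : ∀ t x, T (t • x) = s t a • T x := fun t x => by
    by_cases hx : x = 0
    · simp [hx]
    · obtain ⟨z, hz, hz'⟩ := h.exists_ind2 hx ha
      rw [hs t x hx, h1 t x z hz, h1 t a z hz']
  have h3 := smul_left_injective F (hT0 a ha)
  refine ⟨
    { toFun t := s t a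
      map_one' := h3 (by simp only [← h2, one_smul])
      map_mul' p q := h3 (by simp only [mul_smul, ← h2])
      map_zero' := h3 (by simp only [← h2, zero_smul, map_zero])
      map_add' p q := h3 (by simp only [add_smul, ← h2, map_add]) },
    { T with map_smul' := h2 }, fun x hx => (hT x hx).2⟩

end

end Cfsg.Agent.Classical.FTPG
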