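import Mathlib
import Cfsg.Agent.Classical.SpSimple
import Cfsg.Agent.Classical.GLBasic
import Cfsg.Agent.Classical.FTPG

/-! Automorphisms of the projective symplectic group, coordinate free. -/

set_option autoImplicit false
set_option backward.isDefEq.respectTransparency false

namespace Cfsg.Agent.Classical.AutSp

open Module Cfsg.Agent.Classical.SpWitt Cfsg.Agent.Classical.SpSimple Cfsg.Agent.Classical.FTPG

variable {F V : Type*} [Field F] [AddCommGroup V] [Module F V] {B : LinearMap.BilinForm F V}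

/-- The projective symplectic group. -/
abbrev PG (B : LinearMap.BilinForm F V) : Type _ := SG B ⧸ Subgroup.center (SG B)

section

variable (hA : B.IsAlt)
include hA

/-- The elements of the unipotent radical of a point stabiliser. -/
def eich (v w : V) (c : F) : SG B := tv hA (v + w) 1 * tv hA w (-1) * tv hA v (c - 1)

theorem eich_apply {v w : V} (h : B v w = 0) (c : F) (x : V) :
    (eich hA v w c).1 x = x + B x v • w + B x w • v + (c * B x v) • v := by
  have h' : B w v = 0 := hA.isRefl _ _ h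
  simp only [eich, SG.mul_apply, tv_apply, map_add, map_smul, LinearMap.add_apply,
    LinearMap.smul_apply, hA.self_eq_zero, h, h', smul_eq_mul]
  module

theorem conj_eich (g : SG B) (v w : V) (c : F) :
    g * eich hA v w c * g⁻¹ = eich hA (g.1 v) (g.1 w) c := by
  simp only [eich, ← map_add, ← conj_tv, mul_assoc, inv_mul_cancel_left]

theorem eich_smul (v : V) (a c : F) : eich hA v (a • v) c = tv hA v (c + 2 * a) :=
  SG.ext fun x => by
    rw [eich_apply hA (by simp [hA.self_eq_zero]), tv_apply, map_smul, smul_eq_mul]; module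

theorem eich_commute (h2 : (2 : F) = 0) {v w w' : V} (h : B v w = 0) (h' : B v w' = 0) (c c' : F) :
    eich hA v w c * eich hA v w' c' = eich hA v w' c' * eich hA v w c := SG.ext fun x => by
  have h1 : B w v = 0 := hA.isRefl _ _ h
  have h3 : B w' v = 0 := hA.isRefl _ _ h'
  simp only [SG.mul_apply, eich_apply hA h, eich_apply hA h', map_add, map_smul,
    LinearMap.add_apply, LinearMap.smul_apply, hA.self_eq_zero, h, h', h1, h3, smul_eq_mul,
    ← hA.neg_eq w w']
  linear_combination (norm := module) (-(B x v * B w w') * h2) • v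

theorem commute_tv_iff {u v : V} {a b : F} (ha : a ≠ 0) (hb : b ≠ 0) :
    tv hA u a * tv hA v b = tv hA v b * tv hA u a ↔ B u v = 0 := by
  constructor
  · intro h
    have := congrArg (fun g : SG B => B (g.1 u) v) h
    simp only [SG.mul_apply, tv_apply, map_add, map_smul, LinearMap.add_apply,
      LinearMap.smul_apply, hA.self_eq_zero, smul_eq_mul, ← hA.neg_eq u v] at this
    have h1 : a * b * B u v ^ 3 = 0 := by linear_combination -this
    simpa [ha, hb] using h1
  · intro h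
    rw [← mul_inv_eq_iff_eq_mul, conj_tv, tv_apply, hA.isRefl _ _ h]; simp

end

/-- A group theoretic property of transvections. -/
def QProp {G : Type*} [Group G] (x : G) : Prop := ∀ g y : G, y = g * x * g⁻¹ →
  y * x * y⁻¹ * x = x * (y * x * y⁻¹) → y * x = x * y

theorem QProp.map {G H : Type*} [Group G] [Group H] (e : G ≃* H) {x : G} (h : QProp x) :
    QProp (e x) := by
  intro g y
  obtain ⟨g, rfl⟩ := e.surjective g
  obtain ⟨y, rfl⟩ := e.surjective y
  simp only [← map_mul, ← map_inv, e.apply_eq_iff_eq]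
  exact h g y

theorem qProp_tv (hA : B.IsAlt) (v : V) {c : F} (hc : c ≠ 0) : QProp (tv hA v c) := by
  rintro g _ rfl h
  rw [conj_tv] at h ⊢
  rw [conj_tv, commute_tv_iff hA hc hc, tv_apply] at h
  rw [commute_tv_iff hA hc hc]
  simp only [map_add, map_smul, LinearMap.add_apply, LinearMap.smul_apply, hA.self_eq_zero,
    smul_eq_mul, ← hA.neg_eq (g.1 v) v] at h
  simpa [hc] using h

variable [FiniteDimensional F V] (hB : B.Nondegenerate) (hA : B.IsAlt)
include hB hA

theorem exists_smul_of_orth {v d : V} (h : ∀ y, B v y = 0 → B d y = 0) : ∃ a : F, d = a • v := by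
  by_contra hc
  obtain ⟨y, h1, h2⟩ := exists_orth_one hB hA.isRefl (Submodule.span F {v}) (u := d)
    (fun hd => by obtain ⟨a, ha⟩ := Submodule.mem_span_singleton.1 hd; exact hc ⟨a, ha.symm⟩)
  rw [h y (h1 v (Submodule.mem_span_singleton_self v))] at h2
  exact zero_ne_one h2

theorem eq_of_mk_eq_of_fix {s t : SG B} {x : V} (hx : x ≠ 0) (hs : s.1 x = x) (ht : t.1 x = x)
    (h : (s : PG B) = t) : s = t := by
  rcases (mem_center_iff hB hA).1 (QuotientGroup.eq.1 h) with h1 | h1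
  · exact inv_mul_eq_one.1 h1
  · rw [inv_mul_eq_iff_eq_mul] at h1
    have h2 : (2 : F) = 0 := by
      rw [h1, SG.mul_apply, negSG_apply, map_neg, hs] at ht
      have : (2 : F) • x = 0 := by linear_combination (norm := module) -ht
      exact (smul_eq_zero.1 this).resolve_right hx
    rw [h1]
    refine SG.ext fun y => ?_
    rw [SG.mul_apply, negSG_apply, map_neg]
    linear_combination (norm := module) h2 • s.1 y

theorem eq_tv_of_mk_eq {s : SG B} {x : V} (hx : x ≠ 0) (hs : s.1 x = x) {w : V} {d : F}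
    (h : (s : PG B) = tv hA w d) : s = tv hA w d := by
  by_cases h0 : B x w = 0
  · exact eq_of_mk_eq_of_fix hB hA hx hs (by rw [tv_apply, h0]; simp) h
  rcases (mem_center_iff hB hA).1 (QuotientGroup.eq.1 h) with h1 | h1
  · exact inv_mul_eq_one.1 h1
  · rw [inv_mul_eq_iff_eq_mul] at h1
    have h3 := congrArg (fun g : SG B => B (g.1 x) w) h1
    simp only [SG.mul_apply, negSG_apply, map_neg, hs, tv_apply, map_add, map_smul,
      LinearMap.add_apply, LinearMap.smul_apply, hA.self_eq_zero, LinearMap.neg_apply] at h3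
    have h2 : (2 : F) = 0 := by
      apply mul_right_cancel₀ h0
      linear_combination h3
    rw [h1]
    refine SG.ext fun y => ?_
    rw [SG.mul_apply, negSG_apply, map_neg]
    linear_combination (norm := module) h2 • s.1 y

theorem tv_eq_of_mk_eq {v w : V} {c d : F} (h : (tv hA v c : PG B) = tv hA w d) :
    tv hA v c = tv hA w d := by
  by_cases hv : v = 0
  · by_cases hw : w = 0
    · rw [hv, hw, tv_zero_vec, tv_zero_vec]
    · exact (eq_tv_of_mk_eq hB hA hw (by rw [tv_apply, hA.self_eq_zero]; simp) h.symm).symm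
  · exact eq_tv_of_mk_eq hB hA hv (by rw [tv_apply, hA.self_eq_zero]; simp) h

theorem tv_eq_one_iff {v : V} {c : F} : tv hA v c = 1 ↔ v = 0 ∨ c = 0 := by
  constructor
  · intro h
    by_contra hc
    push Not at hc
    obtain ⟨a, ha⟩ := exists_of_tv_eq hB hA hc.1 hc.2 (h.trans (tv_zero_vec hA 0).symm)
    exact hc.1 (by simpa using ha.symm)
  · rintro (rfl | rfl)
    exacts [tv_zero_vec hA c, tv_zero hA v]

theorem eq_tv_of_fix {z : SG B} {v : V} (hv : v ≠ 0) (h : ∀ w, B v w = 0 → z.1 w = w) :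
    ∃ d, z = tv hA v d := by
  obtain ⟨y, hy⟩ := exists_one hB hA.isRefl hv
  obtain ⟨a, ha⟩ := exists_smul_of_orth hB hA (v := v) (d := z.1 y - y) fun w hw => by
    rw [map_sub, LinearMap.sub_apply, ← SG.map z y, h w hw, sub_self]
  refine ⟨-a, SG.ext fun x => ?_⟩
  have h1 := h (x - B v x • y) (by simp [hy])
  rw [map_sub, map_smul] at h1
  rw [tv_apply, ← hA.neg_eq v x]
  linear_combination (norm := module) h1 + B v x • ha

theorem eq_eich_of {z : SG B} {v : V} (hv : v ≠ 0) (hz : z.1 v = v)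
    (h : ∀ w, B v w = 0 → ∃ a : F, z.1 w = w + a • v) :
    ∃ e d, B v e = 0 ∧ z = eich hA v e d := by
  obtain ⟨y, hy⟩ := exists_one hB hA.isRefl hv
  have hy' : B y v = -1 := by rw [← hA.neg_eq, hy]
  have h0 : B v (y - z.1 y) = 0 := by rw [map_sub, ← SG.map z v y, hz, sub_self]
  obtain ⟨d, hd⟩ := eq_tv_of_fix hB hA hv (z := (eich hA v (y - z.1 y) 0)⁻¹ * z) fun w hw => by
    obtain ⟨a, ha⟩ := h w hw
    have h1 := SG.map z w y
    have h2 : B v (z.1 y) = 1 := by rw [← hz, SG.map z, hy]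
    rw [ha, map_add, map_smul, LinearMap.add_apply, LinearMap.smul_apply, h2, smul_eq_mul] at h1
    apply (eich hA v (y - z.1 y) 0).1.injective
    rw [SG.mul_apply, SG.apply_inv, eich_apply hA h0, ha, hA.isRefl _ _ hw, map_sub]
    linear_combination (norm := module) h1 • v
  refine ⟨y - z.1 y, d, h0, ?_⟩
  refine (inv_mul_eq_iff_eq_mul.1 hd).trans ?_
  rw [eich, eich, mul_assoc, ← tv_add]
  congr 2
  ring

omit hB hA [FiniteDimensional F V] in
/-- The unipotent radical of the stabiliser of a vector. -/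
def radSub (v : V) : Subgroup (SG B) where
  carrier := {g | g.1 v = v ∧ ∀ w, B v w = 0 → ∃ a : F, g.1 w = w + a • v}
  one_mem' := ⟨rfl, fun w _ => ⟨0, by simp⟩⟩
  mul_mem' := by
    rintro g h ⟨h1, h2⟩ ⟨h3, h4⟩
    refine ⟨by rw [SG.mul_apply, h3, h1], fun w hw => ?_⟩
    obtain ⟨a, ha⟩ := h2 w hw
    obtain ⟨b, hb⟩ := h4 w hw
    exact ⟨a + b, by rw [SG.mul_apply, hb, map_add, map_smul, ha, h1]; module⟩
  inv_mem' := by
    rintro g ⟨h1, h2⟩
    refine ⟨g.1.injective (by rw [SG.apply_inv, h1]), fun w hw => ?_⟩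
    obtain ⟨a, ha⟩ := h2 w hw
    exact ⟨-a, g.1.injective (by rw [SG.apply_inv, map_add, map_smul, ha, h1]; module)⟩

omit hB [FiniteDimensional F V] in
theorem eich_mem_radSub {v w : V} (h : B v w = 0) (c : F) : eich hA v w c ∈ radSub (B := B) v :=
  ⟨by simp [eich_apply hA h, hA.self_eq_zero, h], fun x hx => ⟨B x w, by
    simp [eich_apply hA h, hA.isRefl _ _ hx]⟩⟩

omit hB hA [FiniteDimensional F V] in
theorem isPGroup_radSub (p : ℕ) [hp : Fact p.Prime] [CharP F p] {v : V} (hv : v ≠ 0) :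
    IsPGroup p (radSub (B := B) v) := by
  rintro ⟨g, h1, h2⟩
  haveI : Nontrivial V := ⟨v, 0, hv⟩
  haveI : CharP (Module.End F V) p := charP_of_injective_algebraMap (algebraMap F _).injective p
  refine ⟨2, Subtype.ext (Subtype.ext (LinearEquiv.toLinearMap_injective ?_))⟩
  have h3 : (g.1.toLinearMap - 1) ^ 3 = 0 := by
    ext x
    obtain ⟨a, ha⟩ := h2 (g.1 x - x) (by rw [map_sub, ← SG.map g v x, h1, sub_self])
    have : ((g.1.toLinearMap - 1) ^ 2 : Module.End F V) x = a • v := by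
      simp only [pow_two, Module.End.mul_apply, LinearMap.sub_apply, LinearEquiv.coe_coe,
        Module.End.one_apply, ha]
      abel
    rw [pow_succ', Module.End.mul_apply, this]
    simp [h1]
  have h4 : (g.1.toLinearMap - 1) ^ p ^ 2 = 0 :=
    pow_eq_zero_of_le (by nlinarith [hp.out.two_le]) h3
  rw [sub_pow_char_pow_of_commute _ _ (Commute.one_right _), one_pow, sub_eq_zero] at h4
  exact (map_pow (LinearEquiv.automorphismGroup.toLinearMapMonoidHom) g.1 _).trans h4

omit hB hA [FiniteDimensional F V] in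
theorem mem_normalizer_radSub {v : V} {g : SG B} (hg : g.1 v = v) :
    g ∈ Subgroup.normalizer (radSub (B := B) v : Set (SG B)) := by
  have key : ∀ g : SG B, g.1 v = v → ∀ s ∈ radSub v, g * s * g⁻¹ ∈ radSub v := by
    rintro g hg s ⟨h1, h2⟩
    have hg' : (g⁻¹).1 v = v := g.1.injective (by rw [SG.apply_inv, hg])
    refine ⟨by rw [SG.mul_apply, SG.mul_apply, hg', h1, hg], fun w hw => ?_⟩
    obtain ⟨a, ha⟩ := h2 ((g⁻¹).1 w) (by rw [← hg', SG.map g⁻¹, hw])
    exact ⟨a, by rw [SG.mul_apply, SG.mul_apply, ha, map_add, map_smul, hg, SG.apply_inv]⟩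
  refine Subgroup.mem_normalizer_iff.2 fun s => ⟨key g hg s, fun h => ?_⟩
  simpa [mul_assoc] using key g⁻¹ (g.1.injective (by rw [SG.apply_inv, hg])) _ h

variable [Finite F]

theorem image_tv (β : MulAut (PG B)) {v : V} (hv : v ≠ 0) (c : F) :
    ∃ w e d, w ≠ 0 ∧ B w e = 0 ∧ β (tv hA v c :) = (eich hA w e d :) ∧
      ((2 : F) ≠ 0 → ∃ a : F, e = a • w) := by
  obtain ⟨p, hp⟩ := CharP.exists F
  haveI : Fact p.Prime := ⟨CharP.char_is_prime F p⟩
  haveI : Finite V := Module.finite_of_finite F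
  haveI : Finite (SG B) := Finite.of_injective (fun g : SG B => (g.1 : V → V))
    fun _ _ h => SG.ext (congrFun h)
  haveI : Nontrivial V := ⟨v, 0, hv⟩
  obtain ⟨P⟩ : Nonempty (Sylow p (SG B)) := inferInstance
  obtain ⟨u, hPu, hu⟩ := P.isPGroup'.exists_fixed_point_of_prime_dvd_card_of_fixed_point V
    (by rw [Module.natCard_eq_pow_finrank (K := F)]
        exact dvd_pow (GLBasic.char_dvd_card F p) Module.finrank_pos.ne')
    (a := 0) (fun g => map_zero g.1.1)
  replace hPu : ∀ g ∈ P, g.1 u = u := fun g hg => hPu ⟨g, hg⟩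
  replace hu : u ≠ 0 := hu.symm
  have hle : radSub u ≤ (P : Subgroup (SG B)) := by
    have := P.is_maximal' (P.isPGroup'.to_sup_of_normal_right' (isPGroup_radSub p hu)
      fun g hg => mem_normalizer_radSub (hPu g hg)) le_sup_left
    rw [← this]; exact le_sup_right
  obtain ⟨g, hg⟩ := witt_one hB hA hu hv
  let π := QuotientGroup.mk' (Subgroup.center (SG B))
  let β' := β * MulAut.conj (π g)
  let P1 := P.mapSurjective (f := π) (QuotientGroup.mk'_surjective _)
  let P2 := P1.mapSurjective (f := β'.toMonoidHom) β'.surjective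
  obtain ⟨k, hk⟩ := MulAction.exists_smul_eq (PG B) P2 P1
  have hmem : ∀ x, x ∈ P1 ↔ ∃ y ∈ P, k * β' (π y) * k⁻¹ = x := fun x => by
    rw [← hk]
    constructor
    · rintro ⟨_, ⟨_, ⟨y, hy, rfl⟩, rfl⟩, rfl⟩; exact ⟨y, hy, rfl⟩
    · rintro ⟨y, hy, rfl⟩; exact ⟨_, ⟨_, ⟨y, hy, rfl⟩, rfl⟩, rfl⟩
  have ht : tv hA u c ∈ P := hle ⟨by simp [tv_apply, hA.self_eq_zero], fun x hx => ⟨0, by
    simp [tv_apply, hA.isRefl _ _ hx]⟩⟩
  obtain ⟨z, hz, hz'⟩ := (hmem _).2 ⟨tv hA u c, ht, rfl⟩
  obtain ⟨y0, hy0⟩ := exists_one hB hA.isRefl hu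
  have key : ∀ w, B u w = 0 → ∃ a : F, z.1 w = w + a • u ∧ 2 * a = 0 := by
    intro w hw
    obtain ⟨y, hy, hy'⟩ := (hmem _).1 ⟨eich hA u w 0, hle (eich_mem_radSub hA hw 0), rfl⟩
    have h1 : tv hA u c * y = y * tv hA u c := by
      rw [eq_comm, ← mul_inv_eq_iff_eq_mul, conj_tv, hPu y hy]
    have hw' : B u (z.1 w) = 0 := by rw [← hPu z hz, SG.map z, hw]
    have h2 : eich hA u (z.1 w) 0 = eich hA u w 0 := by
      refine eq_of_mk_eq_of_fix hB hA hu (eich_mem_radSub hA hw' 0).1 (eich_mem_radSub hA hw 0).1 ?_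
      conv_lhs => rw [← hPu z hz, ← conj_eich]
      change π (z * _ * z⁻¹) = π _
      rw [map_mul, map_mul, map_inv, mul_inv_eq_iff_eq_mul, hz', ← hy', conj_mul, conj_mul,
        ← map_mul, ← map_mul, ← map_mul, ← map_mul, h1]
    have h3 := congrArg (fun g : SG B => g.1 y0) h2
    simp only [eich_apply hA hw, eich_apply hA hw', ← hA.neg_eq u y0, hy0] at h3
    have h4 : z.1 w = w + (B y0 (z.1 w) - B y0 w) • u := by
      linear_combination (norm := module) -h3
    refine ⟨_, h4, ?_⟩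
    have h5 := congrArg (B y0) h4
    rw [map_add, map_smul, ← hA.neg_eq u y0, hy0, smul_eq_mul] at h5
    linear_combination h5
  obtain ⟨e, d, he, hz2, h2⟩ : ∃ e d, B u e = 0 ∧ z = eich hA u e d ∧
      ((2 : F) ≠ 0 → ∃ a : F, e = a • u) := by
    by_cases h2 : (2 : F) = 0
    · obtain ⟨e, d, he, h⟩ := eq_eich_of hB hA hu (hPu z hz) fun w hw =>
        (key w hw).imp fun a h => h.1
      exact ⟨e, d, he, h, fun h => absurd h2 h⟩
    · obtain ⟨d, hd⟩ := eq_tv_of_fix hB hA hu (z := z) fun w hw => by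
        obtain ⟨a, h3, h4⟩ := key w hw
        rw [h3, (mul_eq_zero.1 h4).resolve_left h2, zero_smul, add_zero]
      exact ⟨(0 : F) • u, d, by simp, by rw [eich_smul, hd]; simp, fun _ => ⟨0, rfl⟩⟩
  obtain ⟨k, rfl⟩ := QuotientGroup.mk_surjective k
  refine ⟨(k⁻¹).1 u, (k⁻¹).1 e, d, by simpa using hu, by rw [SG.map k⁻¹, he], ?_, fun h => ?_⟩
  · rw [← conj_eich, ← hz2, ← hg, ← conj_tv, inv_inv]
    change _ = π (_ * z * _)
    rw [map_mul, map_mul, hz']
    simp [mul_assoc, π, β']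
  · obtain ⟨a, rfl⟩ := h2 h
    exact ⟨a, map_smul _ _ _⟩

omit [Finite F] in
theorem eich_inj {v w w' : V} (hv : v ≠ 0) (h : B v w = 0) (h' : B v w' = 0) {c c' : F}
    (e : eich hA v w c = eich hA v w' c') : ∃ a : F, w' = w + a • v := by
  obtain ⟨y, hy⟩ := exists_one hB hA.isRefl hv
  have h3 := congrArg (fun g : SG B => g.1 y) e
  simp only [eich_apply hA h, eich_apply hA h', ← hA.neg_eq v y, hy] at h3
  exact ⟨B y w' - B y w + c - c', by linear_combination (norm := module) h3⟩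

omit [Finite F] in
theorem not_qProp (h2 : (2 : F) = 0) {v e : V} (hve : Ind2 F v e) (h : B v e = 0) {d : F}
    (hd : d ≠ 0 ∨ 5 ≤ finrank F V) : ¬ QProp (eich hA v e d) := by
  intro hQ
  have hI : LinearIndependent F ![v, e] := LinearIndependent.pair_iff.2 hve
  obtain ⟨f, h3, h4⟩ := exists_orth_one hB hA.isRefl (Submodule.span F {v}) (u := e) fun hd => by
    obtain ⟨a, ha⟩ := Submodule.mem_span_singleton.1 hd
    simpa using (hve a (-1) (by simp [ha])).2
  replace h3 : B v f = 0 := h3 v (Submodule.mem_span_singleton_self v)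
  have key : ∀ v' e', Ind2 F v' e' → B v' e' = 0 → (eich hA v' e' d).1 v = v →
      ∃ a : F, (eich hA v' e' d).1 e = e + a • v := by
    intro v' e' h5 h6 h7
    obtain ⟨g, -, h8, h9⟩ := witt_two hB hA ⊤ (fun _ _ => trivial) hI
      (LinearIndependent.pair_iff.2 h5) (h6.trans h.symm)
    have h10 : B v ((eich hA v' e' d).1 e) = 0 := by rw [← h7, SG.map, h]
    have := hQ g (eich hA v' e' d) (by rw [conj_eich, h8, h9])
      (by rw [conj_eich, h7]; exact eich_commute hA h2 h10 h _ _)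
    rw [← mul_inv_eq_iff_eq_mul, conj_eich, h7] at this
    exact eich_inj hB hA hve.left h h10 this.symm
  have hev : B e v = 0 := hA.isRefl _ _ h
  have hfv : B f v = 0 := hA.isRefl _ _ h3
  rcases hd with hd | hd
  · obtain ⟨a, ha⟩ := key f v (fun a b h5 => by
      have h6 := congrArg (B e) h5
      simp only [map_add, map_smul, h4, hev, smul_eq_mul, map_zero] at h6
      have h7 : a = 0 := by linear_combination h6
      exact ⟨h7, by simpa [h7, hve.left] using h5⟩) hfv
      (by simp [eich_apply hA hfv, h3, hA.self_eq_zero])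
    have := congrArg (B e) ha
    simp [eich_apply hA hfv, h4, hev, hd] at this
  · obtain ⟨y, hy⟩ := exists_one hB hA.isRefl hve.left
    obtain ⟨u, hu, hu0⟩ := (Submodule.ne_bot_iff _).1 (LinearMap.ker_ne_bot_of_finrank_lt
      (f := LinearMap.pi fun i => B (![v, e, f, y] i)) (by simp; omega))
    have h5 : B v u = 0 := congrFun hu 0
    have h6 : B e u = 0 := congrFun hu 1
    have h7 : B u f = 0 := hA.isRefl _ _ (congrFun hu 2)
    have h8 : B y u = 0 := congrFun hu 3
    obtain ⟨a, ha⟩ := key u f (fun a b h9 => by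
      have h10 := congrArg (B e) h9
      simp only [map_add, map_smul, h4, h6, smul_eq_mul, map_zero] at h10
      have h11 : b = 0 := by linear_combination h10
      exact ⟨by simpa [h11, hu0] using h9, h11⟩) h7 (by simp [eich_apply hA h7, h3, h5])
    simp only [eich_apply hA h7, h4, h6, zero_smul, add_zero, one_smul, mul_zero,
      add_right_inj] at ha
    rw [ha, map_smul, ← hA.neg_eq, hy] at h8
    exact hu0 (by rw [ha, show a = 0 by simpa using h8, zero_smul])

omit [Finite F] in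
theorem mk_bijective (h2 : (2 : F) = 0) :
    Function.Bijective (QuotientGroup.mk' (Subgroup.center (SG B))) := by
  refine ⟨?_, QuotientGroup.mk'_surjective _⟩
  rw [injective_iff_map_eq_one]
  intro g hg
  rcases (mem_center_iff hB hA).1 ((QuotientGroup.eq_one_iff _).1 hg) with rfl | rfl
  · rfl
  · exact SG.ext fun x => by
      rw [negSG_apply, SG.one_apply]; linear_combination (norm := module) -h2 • x

theorem image_tv_or (β : MulAut (PG B)) {v : V} (hv : v ≠ 0) {c : F} (hc : c ≠ 0) :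
    (∃ w d, β (tv hA v c :) = (tv hA w d :)) ∨ ((2 : F) = 0 ∧ finrank F V ≤ 4 ∧
      ∃ w e, Ind2 F w e ∧ B w e = 0 ∧ β (tv hA v c :) = (eich hA w e 0 :)) := by
  obtain ⟨w, e, d, hw, he, h, h2⟩ := image_tv hB hA β hv c
  by_cases h3 : ∃ a : F, e = a • w
  · obtain ⟨a, rfl⟩ := h3
    exact Or.inl ⟨w, _, by rw [h, eich_smul]⟩
  have h4 : (2 : F) = 0 := by by_contra h4; exact h3 (h2 h4)
  let π := MulEquiv.ofBijective _ (mk_bijective hB hA h4)
  have h5 : QProp (eich hA w e d) := by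
    have := (((qProp_tv hA v hc).map π).map β).map π.symm
    rwa [show β (π _) = π _ from h, π.symm_apply_apply] at this
  have h6 := mt (not_qProp hB hA h4 (ind2_of_not hw h3) he (d := d)) (not_not.2 h5)
  push Not at h6
  exact Or.inr ⟨h4, by omega, w, e, ind2_of_not hw h3, he, h6.1 ▸ h⟩

omit hB [FiniteDimensional F V] [Finite F] in
/-- `β` maps transvections to transvections. -/
def MapsTv (β : MulAut (PG B)) : Prop := ∀ v c, ∃ w d, β (tv hA v c :) = (tv hA w d :)

theorem mapsTv_of (h : (2 : F) ≠ 0 ∨ 5 ≤ finrank F V) (β : MulAut (PG B)) : MapsTv hA β := by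
  intro v c
  by_cases h0 : v = 0 ∨ c = 0
  · exact ⟨0, 0, by rw [(tv_eq_one_iff hB hA).2 h0, tv_zero]; simp⟩
  push Not at h0
  refine (image_tv_or hB hA β h0.1 h0.2).resolve_right ?_
  rintro ⟨h1, h2, -⟩
  rcases h with h | h
  exacts [h h1, by omega]

theorem mapsTv_of_one (h2 : (2 : F) = 0) {β : MulAut (PG B)} {v : V} (hv : v ≠ 0)
    (h : ∃ w d, β (tv hA v 1 :) = (tv hA w d :)) : MapsTv hA β := by
  intro u c
  haveI : CharP F 2 := CharTwo.of_one_ne_zero_of_two_eq_zero one_ne_zero h2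
  obtain ⟨r, rfl⟩ := (frobeniusEquiv F 2).surjective c
  change ∃ w d, β (tv hA u (r ^ 2) :) = _
  rw [← mul_one (r ^ 2), ← tv_smul]
  by_cases h0 : r • u = 0
  · exact ⟨0, 0, by rw [h0, tv_zero_vec, tv_zero]; simp⟩
  obtain ⟨g, hg⟩ := witt_one hB hA hv h0
  obtain ⟨w, d, h⟩ := h
  obtain ⟨g', hg'⟩ := QuotientGroup.mk_surjective (β g)
  refine ⟨g'.1 w, d, ?_⟩
  rw [← hg, ← conj_tv, ← conj_tv]
  simp only [QuotientGroup.mk_mul, QuotientGroup.mk_inv, map_mul, map_inv, h, hg']

omit hB in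
theorem MapsTv.inv {β : MulAut (PG B)} (h : MapsTv hA β) : MapsTv hA β⁻¹ := by
  haveI : Finite V := Module.finite_of_finite F
  haveI : Finite (SG B) := Finite.of_injective (fun g : SG B => (g.1 : V → V))
    fun _ _ h => SG.ext (congrFun h)
  have h1 : ∀ k : ℕ, MapsTv hA (β ^ k) := fun k => by
    induction k with
    | zero => exact fun v c => ⟨v, c, rfl⟩
    | succ k ih =>
      intro v c
      obtain ⟨w, d, e⟩ := h v c
      obtain ⟨w', d', e'⟩ := ih w d
      exact ⟨w', d', by rw [pow_succ, MulAut.mul_apply, e, e']⟩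
  have h2 : β⁻¹ = β ^ (orderOf β - 1) := by
    rw [inv_eq_iff_mul_eq_one, ← pow_succ', Nat.sub_add_cancel (orderOf_pos β), pow_orderOf_eq_one]
  exact h2 ▸ h1 _

omit [Finite F] in
theorem MapsTv.exists_pt {β : MulAut (PG B)} (h : MapsTv hA β) : ∃ f : V → V,
    (∀ v, v ≠ 0 → f v ≠ 0) ∧ ∀ v c, v ≠ 0 → c ≠ 0 →
      ∃ d, d ≠ 0 ∧ β (tv hA v c :) = (tv hA (f v) d :) := by
  choose a b e using h
  have h0 : ∀ v c, v ≠ 0 → c ≠ 0 → a v c ≠ 0 ∧ b v c ≠ 0 := fun v c hv hc => by
    by_contra h1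
    rw [not_and_or, not_not, not_not, ← tv_eq_one_iff hB hA] at h1
    have h2 := e v c
    rw [h1, QuotientGroup.mk_one, map_eq_one_iff _ β.injective, ← QuotientGroup.mk_one,
      ← tv_zero hA 0] at h2
    have := (tv_eq_one_iff hB hA).1 ((tv_eq_of_mk_eq hB hA h2).trans (tv_zero hA 0))
    tauto
  refine ⟨fun v => a v 1, fun v hv => (h0 v 1 hv one_ne_zero).1, fun v c hv hc => ?_⟩
  obtain ⟨h1, h2⟩ := h0 v c hv hc
  obtain ⟨h3, h4⟩ := h0 v 1 hv one_ne_zero
  have h5 : B (a v c) (a v 1) = 0 := by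
    rw [← commute_tv_iff hA h2 h4, ← mul_inv_eq_iff_eq_mul, conj_tv]
    apply tv_eq_of_mk_eq hB hA
    rw [← conj_tv, QuotientGroup.mk_mul, QuotientGroup.mk_mul, QuotientGroup.mk_inv, ← e, ← e,
      mul_inv_eq_iff_eq_mul, ← map_mul, ← map_mul, ← QuotientGroup.mk_mul, ← QuotientGroup.mk_mul,
      ← tv_add, ← tv_add, add_comm]
  have h6 : tv hA (a v c) (b v c) * tv hA (a v 1) (b v 1) = tv hA (a v (c + 1)) (b v (c + 1)) := by
    refine eq_tv_of_mk_eq hB hA h1 (by simp [SG.mul_apply, tv_apply, h5, hA.self_eq_zero]) ?_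
    rw [QuotientGroup.mk_mul, ← e, ← e, ← e, ← map_mul, ← QuotientGroup.mk_mul, tv_add]
  obtain ⟨s, hs⟩ : ∃ s : F, a v c = s • a v 1 := by
    by_contra h7
    have h8 := ind2_of_not h3 h7
    have h9 : ∀ x, (b v 1 * B x (a v 1)) • a v 1 + (b v c * B x (a v c)) • a v c =
        (b v (c + 1) * B x (a v (c + 1))) • a v (c + 1) := fun x => by
      have := congrArg (fun g : SG B => g.1 x) h6
      simp only [SG.mul_apply, tv_apply, map_add, map_smul, LinearMap.add_apply,
        LinearMap.smul_apply, hA.isRefl _ _ h5, smul_zero, add_zero] at this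
      linear_combination (norm := module) this
    obtain ⟨x, hx, hx'⟩ := exists_orth_one hB hA.isRefl (Submodule.span F {a v 1}) (u := a v c)
      fun hd => by obtain ⟨s, hs⟩ := Submodule.mem_span_singleton.1 hd; exact h7 ⟨s, hs.symm⟩
    obtain ⟨y, hy, hy'⟩ := exists_orth_one hB hA.isRefl (Submodule.span F {a v c}) (u := a v 1)
      fun hd => by
        obtain ⟨s, hs⟩ := Submodule.mem_span_singleton.1 hd
        simpa using (h8 (-1) s (by simp [hs])).1
    have h10 := h9 x
    have h11 := h9 y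
    rw [hA.isRefl _ _ (hx _ (Submodule.mem_span_singleton_self _)), ← hA.neg_eq, hx'] at h10
    rw [hA.isRefl _ _ (hy _ (Submodule.mem_span_singleton_self _)), ← hA.neg_eq, hy'] at h11
    set p := b v (c + 1) * B x (a v (c + 1))
    set q := b v (c + 1) * B y (a v (c + 1))
    have h12 := (h8 (p * b v 1) (-(q * b v c))
      (by linear_combination (norm := module) q • h10 - p • h11)).1
    rw [(mul_eq_zero.1 h12).resolve_right h4] at h10
    simp [h1, h2] at h10
  refine ⟨s ^ 2 * b v c, mul_ne_zero (pow_ne_zero _ ?_) h2, by rw [e, hs, tv_smul]⟩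
  rintro rfl
  exact h1 (by simpa using hs)

omit [Finite F] in
theorem sp_iff_orth {u v w : V} :
    Sp F u v w ↔ ∀ x, x ≠ 0 → B u x = 0 → B v x = 0 → B w x = 0 := by
  constructor
  · rintro ⟨a, b, rfl⟩ x - h1 h2; simp [h1, h2]
  · intro h
    by_contra hc
    obtain ⟨y, h1, h2⟩ := exists_orth_one hB hA.isRefl (Submodule.span F {u, v}) (u := w)
      fun hd => by obtain ⟨a, b, e⟩ := Submodule.mem_span_pair.1 hd; exact hc ⟨a, b, e.symm⟩
    rw [h y (by rintro rfl; simp at h2) (h1 u (Submodule.subset_span (by simp)))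
      (h1 v (Submodule.subset_span (by simp)))] at h2
    exact zero_ne_one h2

/-- An automorphism preserving the transvections is induced by a semilinear similarity. -/
theorem MapsTv.exists_semilinear {β : MulAut (PG B)} (h : MapsTv hA β) (h3 : 3 ≤ finrank F V) :
    ∃ (σ : F →+* F) (T : V →ₛₗ[σ] V) (μ : F), μ ≠ 0 ∧ (∀ u v, B (T u) (T v) = μ * σ (B u v)) ∧
      ∀ g g' : SG B, (∀ x, g'.1 (T x) = T (g.1 x)) → β g = g' := by
  obtain ⟨f, hf0, hf⟩ := h.exists_pt hB hA
  obtain ⟨f', hf0', hf'⟩ := (h.inv hA).exists_pt hB hA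
  have h1 : ∀ u v, u ≠ 0 → v ≠ 0 → (B (f u) (f v) = 0 ↔ B u v = 0) := fun u v hu hv => by
    obtain ⟨c, hc, e⟩ := hf u 1 hu one_ne_zero
    obtain ⟨d, hd, e'⟩ := hf v 1 hv one_ne_zero
    rw [← commute_tv_iff hA hc hd, ← commute_tv_iff hA one_ne_zero one_ne_zero,
      ← mul_inv_eq_iff_eq_mul, ← mul_inv_eq_iff_eq_mul]
    have h2 : ((tv hA (f u) c * tv hA (f v) d * (tv hA (f u) c)⁻¹ : SG B) : PG B) =
        β (tv hA u 1 * tv hA v 1 * (tv hA u 1)⁻¹ :) := by
      simp only [QuotientGroup.mk_mul, QuotientGroup.mk_inv, map_mul, map_inv, e, e']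
    constructor
    · intro h4
      rw [h4, ← e', β.apply_eq_iff_eq, conj_tv] at h2
      rw [conj_tv, tv_eq_of_mk_eq hB hA h2]
    · intro h4
      rw [h4, e', conj_tv] at h2
      rw [conj_tv, tv_eq_of_mk_eq hB hA h2]
  have h2 : ∀ w, w ≠ 0 → ∃ a : F, a • f (f' w) = w := fun w hw => by
    obtain ⟨c, hc, e⟩ := hf' w 1 hw one_ne_zero
    obtain ⟨d, -, e'⟩ := hf _ c (hf0' w hw) hc
    rw [← e, MulAut.apply_inv_self] at e'
    exact exists_of_tv_eq hB hA hw one_ne_zero (tv_eq_of_mk_eq hB hA e')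
  obtain ⟨a, b, c, habc⟩ : ∃ a b c : V, Ind3 F a b c := by
    let e := Module.finBasis F V
    have := Fintype.linearIndependent_iff.1 (e.linearIndependent.comp (Fin.castLE h3)
      (Fin.castLE_injective h3))
    refine ⟨e (Fin.castLE h3 0), e (Fin.castLE h3 1), e (Fin.castLE h3 2), fun p q r h4 => ?_⟩
    have h5 := this ![p, q, r] (by simpa [Fin.sum_univ_three] using h4)
    exact ⟨h5 0, h5 1, h5 2⟩
  obtain ⟨σ, T, hT⟩ := FTPG.exists_semilinear (K := F) (F := F) hf0 (fun u v w hu hv hw => by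
    rw [sp_iff_orth hB hA, sp_iff_orth hB hA]
    constructor
    · intro h4 x hx h5 h6
      obtain ⟨s, hs⟩ := h2 x hx
      have hs0 : s ≠ 0 := by rintro rfl; exact hx (by simpa using hs.symm)
      rw [← hs, map_smul, smul_eq_zero, or_iff_right hs0, h1 _ _ ‹_› (hf0' x hx)] at h5 h6 ⊢
      exact h4 _ (hf0' x hx) h5 h6
    · intro h4 x hx h5 h6
      rw [← h1 _ _ ‹_› hx] at h5 h6 ⊢
      exact h4 _ (hf0 x hx) h5 h6) habc
  have hT0 : ∀ x, x ≠ 0 → T x ≠ 0 := fun x hx e => by
    obtain ⟨c, -, e'⟩ := hT x hx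
    exact hf0 x hx (by rw [e', e, smul_zero])
  have h4 : ∀ u v, B (T u) (T v) = 0 ↔ B u v = 0 := fun u v => by
    by_cases hu : u = 0
    · simp [hu]
    by_cases hv : v = 0
    · simp [hv]
    obtain ⟨c, hc, e⟩ := hT u hu
    obtain ⟨d, hd, e'⟩ := hT v hv
    rw [← h1 u v hu hv, e, e']; simp [hc, hd]
  have h5 : ∀ u v y, B u y = 1 → B (T u) (T v) = B (T u) (T y) * σ (B u v) := fun u v y hy => by
    have := (h4 u (v - B u v • y)).2 (by simp [hy])
    rw [map_sub, map_smulₛₗ, map_sub, map_smul, smul_eq_mul] at this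
    linear_combination this
  obtain ⟨y0, hy0⟩ := exists_one hB hA.isRefl habc.ind2.left
  have h6 : ∀ u y, B u y = 1 → B (T u) (T y) = B (T a) (T y0) := fun u y hy => by
    obtain ⟨z, h6, h7⟩ := exists_ne_zero_two hB hA (u := u) (v := a) (by rintro rfl; simp at hy)
      habc.ind2.left
    obtain ⟨y', hy'⟩ := exists_one hB hA.isRefl (u := z) (by rintro rfl; simp at h6)
    have h8 := h5 z u y' hy'
    have h9 := h5 z a y' hy'
    rw [← hA.neg_eq, h5 u z y hy, ← hA.neg_eq u z, map_neg] at h8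
    rw [← hA.neg_eq, h5 a z y0 hy0, ← hA.neg_eq a z, map_neg] at h9
    apply mul_right_cancel₀ (mul_ne_zero ((map_ne_zero σ).2 h6) ((map_ne_zero σ).2 h7))
    linear_combination σ (B u z) * h9 - σ (B a z) * h8
  refine ⟨σ, T, B (T a) (T y0), fun e => by simp [(h4 _ _).1 e] at hy0, fun u v => ?_,
    fun g g' hg => ?_⟩
  · by_cases hu : u = 0
    · simp [hu]
    · obtain ⟨y, hy⟩ := exists_one hB hA.isRefl hu
      rw [h5 u v y hy, h6 u y hy]
  obtain ⟨k, hk⟩ := QuotientGroup.mk_surjective (β g)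
  rw [← hk, eq_comm, QuotientGroup.eq, mem_center_iff hB hA]
  refine eq_of_forall_mem_span hB fun x => ?_
  by_cases hx : x = 0
  · exact ⟨0, by simp [hx]⟩
  obtain ⟨s, hs⟩ := h2 x hx
  have hu := hf0' x hx
  set u := f' x
  have hgu : g.1 u ≠ 0 := by simpa using hu
  obtain ⟨c1, hc1, e1⟩ := hf u 1 hu one_ne_zero
  obtain ⟨c2, hc2, e2⟩ := hf (g.1 u) 1 hgu one_ne_zero
  obtain ⟨r, hr⟩ := exists_of_tv_eq hB hA (v := k.1 (f u)) (w := f (g.1 u)) (d := c2)
    (by simpa using hf0 u hu) hc1 (tv_eq_of_mk_eq hB hA (by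
      rw [← e2, ← conj_tv, ← conj_tv]
      simp only [QuotientGroup.mk_mul, QuotientGroup.mk_inv, map_mul, map_inv, e1, hk]))
  obtain ⟨d1, hd1, e3⟩ := hT u hu
  obtain ⟨d2, hd2, e4⟩ := hT _ hgu
  refine ⟨r * d2 / d1, g'.1.injective ?_⟩
  rw [SG.mul_apply, SG.apply_inv, ← hs, map_smul k.1, ← hr, e3, e4, ← hg]
  simp only [map_smul, smul_smul]
  congr 1
  field_simp

end Cfsg.Agent.Classical.AutSp
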