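import Mathlib
import Cfsg.Agent.Classical.LS

/-!
# The Landazuri–Seitz bound through the unipotent radical of a Siegel parabolic subgroup
-/

set_option autoImplicit false

namespace Cfsg.Agent.Classical.LS

open Module

variable {F U : Type*} [Field F] [Fintype F] [AddCommGroup U] [Module F U] [Finite U]

theorem card_ker {f : Dual F U} (hf : f ≠ 0) :
    Nat.card (LinearMap.ker f) = Fintype.card F ^ (finrank F U - 1) := by
  have := Module.Dual.finrank_ker_add_one_of_ne_zero hf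
  rw [Module.natCard_eq_pow_finrank (K := F), Nat.card_eq_fintype_card, ← this]; simp

theorem card_ann {x : U} (hx : x ≠ 0) :
    Nat.card {f : Dual F U // f x = 0} = Fintype.card F ^ (finrank F U - 1) := by
  have : Finite (Dual F U) := Finite.of_injective _ DFunLike.coe_injective
  have h : Module.Dual.eval F U x ≠ 0 := fun e => hx ((Module.eval_apply_eq_zero_iff F x).1 e)
  have := card_ker h
  rwa [Subspace.dual_finrank_eq] at this

/-- The number of vectors of a given non-zero norm. -/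
theorem card_norm_le {σ : F →+* F} (h : U →ₛₗ[σ] U →ₗ[F] F) (hr : ∀ u v, h u v = 0 → h v u = 0)
    {k : ℕ} (hk : ∀ d, Nat.card {a : F // σ a * a = d} ≤ k) {c : F} (hc : c ≠ 0) :
    Nat.card {x : U // h x x = c} ≤ k * Fintype.card F ^ (finrank F U - 1) := by
  classical
  by_cases hne : ∃ x, h x x = c
  swap
  · have : IsEmpty {x : U // h x x = c} := ⟨fun x => hne ⟨x, x.2⟩⟩
    simp
  obtain ⟨x₁, hx₁⟩ := hne
  have hf : h x₁ ≠ 0 := fun e => hc (by rw [← hx₁, e]; rfl)
  have := Fintype.ofFinite U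
  let φ : {x : U // h x x = c} → Σ y : LinearMap.ker (h x₁), {a : F // σ a * a = (c - h y y) / c} :=
    fun x => ⟨⟨x - (h x₁ x / c) • x₁, by simp [hx₁, hc]⟩, ⟨h x₁ x / c, by
      have h0 : h x₁ (x - (h x₁ x / c) • x₁) = 0 := by simp [hx₁, hc]
      have h1 := hr _ _ h0
      have e : (x : U) = (h x₁ x / c) • x₁ + (x - (h x₁ x / c) • x₁) := by abel
      have h2 := x.2
      dsimp only
      generalize (x : U) - (h x₁ x / c) • x₁ = y at *
      generalize h x₁ x / c = a at *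
      rw [e] at h2
      simp only [map_add, LinearMap.add_apply, map_smulₛₗ, LinearMap.smul_apply, h0, h1, hx₁,
        smul_eq_mul, RingHom.id_apply] at h2
      field_simp
      linear_combination h2⟩⟩
  have hφ : Function.Injective φ := by
    intro x y e
    have e1 : (x : U) - (h x₁ x / c) • x₁ = y - (h x₁ y / c) • x₁ :=
      congrArg (fun z => (z.1 : U)) e
    have e2 : h x₁ x / c = h x₁ y / c := congrArg (fun z => (z.2 : F)) e
    rw [e2] at e1
    exact Subtype.ext (sub_left_injective e1)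
  refine (Nat.card_le_card_of_injective φ hφ).trans ?_
  rw [Nat.card_sigma, ← card_ker hf, Nat.card_eq_fintype_card, mul_comm]
  exact (Finset.sum_le_card_nsmul _ _ k fun y _ => hk _).trans (by simp)

/-- Pull-back of a sesquilinear form. -/
def pull {σ : F →+* F} (h : U →ₛₗ[σ] U →ₗ[F] F) (γ : U →ₗ[F] U) : U →ₛₗ[σ] U →ₗ[F] F :=
  (h.comp γ).compl₂ γ

omit [Fintype F] [Finite U] in
@[simp] theorem pull_apply {σ : F →+* F} (h : U →ₛₗ[σ] U →ₗ[F] F) (γ : U →ₗ[F] U) (u v : U) :
    pull h γ u v = h (γ u) (γ v) := rfl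

variable {G W : Type*} [Group G] [Finite G] [AddCommGroup W] [Module ℂ W] [FiniteDimensional ℂ W]

/-- Data of a Siegel-type abelian unipotent radical. -/
structure Sieg (σ : F →+* F) (ε : F) (S : U × U → G) (Γ : Set (U →ₗ[F] U)) : Prop where
  add : ∀ u v w, S (u, v) * S (u, w) = S (u, v + w)
  swap : ∀ u v, S (v, u) = S (u, ε • v)
  smul : ∀ a u v, S (a • u, v) = S (u, σ a • v)
  comm : ∀ i j, Commute (S i) (S j)
  move : ∀ γ ∈ Γ, ∃ g : G, ∀ u v, S (u, v) * g = g * S (γ u, γ v)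
  trans : ∀ x y, x ≠ 0 → y ≠ 0 → ∃ γ ∈ Γ, γ x = y
  shear : ∀ x (f : Dual F U), f x = 0 → LinearMap.id + f.smulRight x ∈ Γ

variable {σ : F →+* F} {ε : F} {S : U × U → G} {Γ : Set (U →ₗ[F] U)} {ρ : Representation ℂ G W}

omit [Finite U] [Finite G] [FiniteDimensional ℂ W] in
theorem Sieg.exists_form (H : Sieg σ ε S Γ) {β : U × U → ℂ} (hβ : Wt ρ S β ≠ ⊥) :
    ∃ h : U →ₛₗ[σ] U →ₗ[F] F, ∀ u v, β (u, v) = ψ F (h u v) := by
  have h0 : ∀ u, S (u, 0) = 1 := fun u => by simpa using H.add u 0 0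
  have : ∀ u v, ∃ a, ∀ b, β (u, b • v) = ψ F (a * b) := fun u v =>
    exists_eq_ψ' _ (by rw [zero_smul]; exact wt_one hβ (h0 u)) fun a b => by
      rw [add_smul]; exact (wt_mul hβ (H.add _ _ _)).symm
  choose h hh using this
  have ar : ∀ u v w, β (u, v + w) = β (u, v) * β (u, w) := fun u v w =>
    (wt_mul hβ (H.add _ _ _)).symm
  have al : ∀ u u' v, β (u + u', v) = β (u, v) * β (u', v) := fun u u' v => by
    rw [wt_eq hβ (H.swap v (u + u')), wt_eq hβ (H.swap v u), wt_eq hβ (H.swap v u'), smul_add, ar]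
  refine ⟨LinearMap.mk₂'ₛₗ σ (RingHom.id F) h (fun u u' v => eq_of_ψ fun b => ?_)
    (fun a u v => eq_of_ψ fun b => ?_) (fun u v v' => eq_of_ψ fun b => ?_)
    (fun a u v => eq_of_ψ fun b => ?_), fun u v => by simpa using hh u v 1⟩
  · rw [← hh, al, hh, hh, add_mul, ψ_add]
  · rw [← hh, wt_eq hβ (H.smul _ _ _), smul_smul, hh, smul_eq_mul]; congr 1; ring
  · rw [← hh, smul_add, ar, hh, hh, add_mul, ψ_add]
  · rw [← hh, smul_smul, hh, smul_eq_mul, RingHom.id_apply]; congr 1; ring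

omit [Finite U] [Finite G] [FiniteDimensional ℂ W] in
theorem Sieg.swap_form (H : Sieg σ ε S Γ) {h : U →ₛₗ[σ] U →ₗ[F] F}
    (hβ : Wt ρ S (fun i => ψ F (h i.1 i.2)) ≠ ⊥) (u v : U) (b : F) :
    ψ F (h v u * b) = ψ F (h u v * (σ b * ε)) := by
  have := wt_eq hβ ((H.swap (b • u) v).trans (H.smul b u _))
  simp only [map_smul, smul_eq_mul] at this
  rw [mul_comm, this]; congr 1; ring

theorem Sieg.bound (H : Sieg σ ε S Γ) {k m : ℕ} (hk : ∀ d, Nat.card {a : F // σ a * a = d} ≤ k)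
    (hni : ∀ h : U →ₛₗ[σ] U →ₗ[F] F, (∀ u v b, ψ F (h v u * b) = ψ F (h u v * (σ b * ε))) →
      (∀ v, h v v = 0) → h = 0)
    (hm : ∀ β, Wt ρ S β ≠ ⊥ → (∃ x, ∃ c : F, β (x, c • x) ≠ 1) → m ≤ finrank ℂ (Wt ρ S β))
    (hρ : ∃ i, ρ (S i) ≠ 1) :
    (Fintype.card F ^ finrank F U - 1) * m ≤ k * finrank ℂ W := by
  classical
  have := Fintype.ofFinite U
  have : Finite (U →ₛₗ[σ] U →ₗ[F] F) :=
    Finite.of_injective (fun h : U →ₛₗ[σ] U →ₗ[F] F => fun u v => h u v)
      fun a b e => LinearMap.ext₂ fun u v => congrFun (congrFun e u) v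
  have := Fintype.ofFinite (U →ₛₗ[σ] U →ₗ[F] F)
  let w : (U →ₛₗ[σ] U →ₗ[F] F) → U × U → ℂ := fun h i => ψ F (h i.1 i.2)
  let O : Finset (U →ₛₗ[σ] U →ₗ[F] F) := {h | Wt ρ S (w h) ≠ ⊥ ∧ ∃ x, h x x ≠ 0}
  have hO : O.card * m ≤ finrank ℂ W := by
    refine card_mul_le (ρ := ρ) H.comm O w (fun a _ b _ e => LinearMap.ext₂ fun u v => eq_of_ψ fun c => ?_)
      fun h hh => ?_
    · simpa [w, mul_comm] using congrFun e (u, c • v)
    · obtain ⟨h1, x, hx⟩ := (Finset.mem_filter.1 hh).2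
      obtain ⟨c, hc⟩ := exists_ψ_ne hx
      exact hm _ h1 ⟨x, c, by simpa [w, mul_comm] using hc⟩
  obtain ⟨i, hi⟩ := hρ
  obtain ⟨β, hβ1, hβ⟩ := exists_wt H.comm hi
  obtain ⟨h₀, hh₀⟩ := H.exists_form hβ
  obtain rfl : β = w h₀ := funext fun j => hh₀ j.1 j.2
  obtain ⟨x₀, hx₀⟩ : ∃ x, h₀ x x ≠ 0 := by
    by_contra hc
    push Not at hc
    rw [hni h₀ (H.swap_form hβ) hc] at hβ1
    simp [w] at hβ1
  have hcl : ∀ h, Wt ρ S (w h) ≠ ⊥ → ∀ γ ∈ Γ, Wt ρ S (w (pull h γ)) ≠ ⊥ := by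
    intro h hh γ hγ
    obtain ⟨g, hg⟩ := H.move γ hγ
    have := Wt_ne_bot (ρ := ρ) (x := S) (β := w h) (g := g) (π := fun i => (γ i.1, γ i.2))
      (fun i => hg i.1 i.2) hh
    have e : (w h ∘ fun i : U × U => (γ i.1, γ i.2)) = w (pull h γ) := rfl
    rwa [e] at this
  set c := h₀ x₀ x₀ with hc
  set N := Fintype.card F ^ (finrank F U - 1) with hN
  have key := Finset.card_mul_le_card_mul (s := (Finset.univ.erase 0 : Finset U)) (t := O)
    (m := N) (n := k * N) (fun x h => h x x = c) (fun x hx => ?_) (fun h hh => ?_)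
  · have hNpos : 0 < N := pow_pos Fintype.card_pos _
    rw [Finset.card_erase_of_mem (Finset.mem_univ _), Finset.card_univ,
      Module.card_eq_pow_finrank (K := F), ← mul_assoc] at key
    calc _ ≤ O.card * k * m := Nat.mul_le_mul_right _ (Nat.le_of_mul_le_mul_right key hNpos)
      _ = k * (O.card * m) := by ring
      _ ≤ _ := Nat.mul_le_mul_left _ hO
  · have hx0 : x ≠ 0 := Finset.ne_of_mem_erase hx
    obtain ⟨γ, hγ, e⟩ := H.trans x x₀ hx0 (fun e => hx₀ (by rw [hc, e]; simp))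
    have h1 := hcl h₀ hβ γ hγ
    have h2 : pull h₀ γ x x = c := by simp [e, hc]
    generalize pull h₀ γ = h₁ at h1 h2
    rw [hN, ← card_ann hx0, ← Nat.card_eq_finsetCard]
    refine Nat.card_le_card_of_injective (fun f => ⟨pull h₁ (LinearMap.id + f.1.smulRight x),
      ?_⟩) fun f f' e => ?_
    · simp only [Finset.bipartiteAbove, Finset.mem_filter, O, Finset.mem_univ, true_and]
      have : pull h₁ (LinearMap.id + f.1.smulRight x) x x = c := by
        simp [f.2, h2]
      exact ⟨⟨hcl _ h1 _ (H.shear x f.1 f.2), x, by rw [this]; exact hx₀⟩, this⟩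
    · refine Subtype.ext (LinearMap.ext fun z => ?_)
      have := congrArg (fun h => h.1 x z) e
      simpa [f.2, f'.2, h2, hx₀] using this
  · obtain ⟨h1, -⟩ := (Finset.mem_filter.1 hh).2
    refine le_trans ?_ (card_norm_le h (fun u v e => eq_zero_of_ψ fun b => ?_) hk hx₀)
    · rw [← Nat.card_eq_finsetCard]
      exact Nat.card_le_card_of_injective
        (fun x => ⟨x.1, (Finset.mem_filter.1 x.2).2⟩) fun a b e => Subtype.ext (congrArg Subtype.val e :)
    · rw [H.swap_form h1, e]; simp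

omit [Finite U] [Fintype F] in
/-- Transitivity on non-zero vectors from shears, in dimension at least two. -/
theorem trans_of_shear [FiniteDimensional F U] (hU : 2 ≤ finrank F U)
    (hmul : ∀ γ ∈ Γ, ∀ δ ∈ Γ, γ ∘ₗ δ ∈ Γ)
    (hs : ∀ x (f : Dual F U), f x = 0 → LinearMap.id + f.smulRight x ∈ Γ) (x y : U) (hx : x ≠ 0)
    (hy : y ≠ 0) : ∃ γ ∈ Γ, γ x = y := by
  have key : ∀ x y : U, x ∉ Submodule.span F {y - x} → ∃ γ ∈ Γ, γ x = y := by
    intro x y h
    obtain ⟨f, hf, hf0⟩ := Submodule.exists_dual_map_eq_bot_of_notMem h inferInstance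
    have h0 : f (y - x) = 0 := by
      have : f (y - x) ∈ (Submodule.span F {y - x}).map f :=
        Submodule.mem_map_of_mem (Submodule.mem_span_singleton_self _)
      rwa [hf0] at this
    refine ⟨_, hs (y - x) ((f x)⁻¹ • f) (by simp [h0]), ?_⟩
    simp [hf]
  have ind : ∀ x y : U, x ≠ 0 → y ∉ Submodule.span F {x} → x ∉ Submodule.span F {y - x} ∧
      y ∉ Submodule.span F {x - y} := by
    intro x y hx hy
    refine ⟨fun h => ?_, fun h => ?_⟩
    · obtain ⟨a, ha⟩ := Submodule.mem_span_singleton.1 h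
      have ha0 : a ≠ 0 := by rintro rfl; simp at ha; exact hx ha.symm
      exact hy (Submodule.mem_span_singleton.2 ⟨a⁻¹ * (1 + a), by
        apply smul_right_injective U ha0
        simp only [smul_smul, mul_inv_cancel_left₀ ha0]
        linear_combination (norm := module) -ha⟩)
    · obtain ⟨a, ha⟩ := Submodule.mem_span_singleton.1 h
      by_cases h1 : 1 + a = 0
      · have : a • x = 0 := by linear_combination (norm := module) ha + h1 • y
        have ha0 : a = 0 := (smul_eq_zero.1 this).resolve_right hx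
        simp [ha0] at h1
      · exact hy (Submodule.mem_span_singleton.2 ⟨(1 + a)⁻¹ * a, by
          apply smul_right_injective U h1
          simp only [smul_smul, mul_inv_cancel_left₀ h1]
          linear_combination (norm := module) ha⟩)
  by_cases h : y ∈ Submodule.span F {x}
  · obtain ⟨z, hz⟩ : ∃ z, z ∉ Submodule.span F {x} := by
      by_contra hc
      push Not at hc
      have := finrank_span_singleton (K := F) hx
      rw [Submodule.eq_top_iff'.2 hc, finrank_top] at this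
      omega
    obtain ⟨γ, hγ, e⟩ := key x z (ind x z hx hz).1
    obtain ⟨δ, hδ, e'⟩ := key z y (ind y z hy (fun h' => hz (by
      exact (Submodule.span_singleton_le_iff_mem _ _).2 h h'))).2
    exact ⟨_, hmul δ hδ γ hγ, by simp [e, e']⟩
  · exact key x y (ind x y hx h).1

end Cfsg.Agent.Classical.LS
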