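import Mathlib
import Cfsg.Agent.Classical.LS2
import Cfsg.Agent.Classical.SpMat
import Cfsg.Agent.Classical.AutSp

/-!
# The Landazuri–Seitz bound and the Weil representation of the symplectic groups
-/

set_option autoImplicit false

namespace Cfsg.Agent.Classical.LS

open Module Cfsg.Agent.Classical.SpWitt Cfsg.Agent.Classical.SpMat

section bound
variable {F V : Type*} [Field F] [AddCommGroup V] [Module F V] [FiniteDimensional F V]
  {B : LinearMap.BilinForm F V} (hB : B.Nondegenerate) (hA : B.IsAlt) {U : Submodule F V}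
  (hU : ∀ u ∈ U, ∀ v ∈ U, B u v = 0)

/-- The Siegel family of a totally isotropic subspace. -/
def sS (U : Submodule F V) (i : U × U) : SG B := AutSp.eich hA i.1 i.2 0

/-- The maps induced on `U`. -/
def ΓS (B : LinearMap.BilinForm F V) (U : Submodule F V) : Set (U →ₗ[F] U) :=
  {γ | ∃ g : SG B, ∀ u : U, g.1 u = γ u}

include hU in
omit [FiniteDimensional F V] in
theorem sS_apply (u v : U) (x : V) :
    (sS hA U (u, v)).1 x = x + B x u • (v : V) + B x v • (u : V) := by
  change (AutSp.eich hA u v 0).1 x = _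
  rw [AutSp.eich_apply hA (hU _ u.2 _ v.2)]; simp

omit [FiniteDimensional F V] in
theorem sS_conj (g : SG B) {u v u' v' : U} (hu : g.1 u = u') (hv : g.1 v = v') :
    g * sS hA U (u, v) * g⁻¹ = sS hA U (u', v') := by
  change g * AutSp.eich hA u v 0 * g⁻¹ = AutSp.eich hA u' v' 0
  rw [AutSp.conj_eich, hu, hv]

include hB hA hU in
theorem mem_ΓS (γ : U →ₗ[F] U) (hγ : Function.Injective γ) : γ ∈ ΓS B U :=
  witt hB hA U (U.subtype ∘ₗ γ) (U.injective_subtype.comp hγ) fun x y => by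
    rw [hU _ x.2 _ y.2]; exact hU _ (γ x).2 _ (γ y).2

include hB hA hU in
theorem shear_memS (x : U) (f : Dual F U) (hf : f x = 0) :
    LinearMap.id + f.smulRight x ∈ ΓS B U := by
  refine mem_ΓS hB hA hU _ ((injective_iff_map_eq_zero _).2 fun z hz => ?_)
  have h1 : z + f z • x = 0 := hz
  have h2 : f z = 0 := by simpa [hf] using congrArg f h1
  simpa [h2] using h1

include hB hU in
theorem siegS (hn : 2 ≤ finrank F U) : Sieg (RingHom.id F) 1 (sS hA U) (ΓS B U) where
  add u v w := SG.ext fun x => by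
    simp only [SG.mul_apply, sS_apply hA hU, map_add, map_smul, hU _ w.2 _ u.2,
      hU _ u.2 _ u.2, hU _ w.2 _ v.2, hU _ u.2 _ v.2, Submodule.coe_add,
      LinearMap.add_apply, LinearMap.smul_apply]
    module
  swap u v := SG.ext fun x => by
    simp only [sS_apply hA hU, one_smul]
    module
  smul a u v := SG.ext fun x => by
    simp only [sS_apply hA hU, Submodule.coe_smul, map_smul, RingHom.id_apply, smul_eq_mul]
    module
  comm := by
    rintro ⟨u, v⟩ ⟨u', v'⟩
    have := sS_conj hA (sS hA U (u, v)) (u := u') (v := v') (u' := u') (v' := v')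
      (by rw [sS_apply hA hU, hU _ u'.2 _ v.2, hU _ u'.2 _ u.2]; simp)
      (by rw [sS_apply hA hU, hU _ v'.2 _ v.2, hU _ v'.2 _ u.2]; simp)
    exact mul_inv_eq_iff_eq_mul.1 this
  move := by
    rintro γ ⟨g, hg⟩
    refine ⟨g⁻¹, fun u v => ?_⟩
    rw [← sS_conj hA g (hg u) (hg v)]; group
  trans x y hx hy := by
    refine trans_of_shear hn ?_ (shear_memS hB hA hU) x y hx hy
    rintro γ ⟨g, hg⟩ δ ⟨h, hh⟩
    exact ⟨g * h, fun u => by rw [SG.mul_apply, hh, hg]; rfl⟩
  shear := shear_memS hB hA hU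

theorem card_sq_le (d : F) : Nat.card {a : F // RingHom.id F a * a = d} ≤ 2 := by
  by_cases h : ∃ a, a * a = d
  · obtain ⟨a, rfl⟩ := h
    have : {b : F | RingHom.id F b * b = a * a} ⊆ {a, -a} := fun b hb =>
      mul_self_eq_mul_self_iff.1 hb
    exact (Set.ncard_le_ncard this).trans ((Set.ncard_insert_le _ _).trans (by simp))
  · have : IsEmpty {a : F // RingHom.id F a * a = d} := ⟨fun a => h ⟨a, a.2⟩⟩
    simp

include hB hA hU in
theorem sp_bound [Fintype F] (h2 : (2 : F) ≠ 0) (hn : 2 ≤ finrank F U) {W : Type*} [AddCommGroup W]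
    [Module ℂ W] [FiniteDimensional ℂ W] (ρ : Representation ℂ (SG B) W) (hρ : ∃ g, ρ g ≠ 1) :
    Fintype.card F ^ finrank F U - 1 ≤ 2 * finrank ℂ W := by
  have : Finite V := Module.finite_of_finite F
  have : Finite (SG B) := Finite.of_injective (fun g : SG B => (g.1 : V → V))
    fun _ _ h => SG.ext (congrFun h)
  have := (siegS hB hA hU hn).bound (ρ := ρ) (m := 1) card_sq_le (fun h hs h0 => ?_)
    (fun β hβ _ => ?_) ?_
  · rwa [mul_one] at this
  · refine LinearMap.ext₂ fun u v => ?_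
    have e : h v u = h u v := eq_of_ψ fun b => by simpa using hs u v b
    have := h0 (u + v)
    simp only [map_add, LinearMap.add_apply, h0, e] at this
    exact mul_left_cancel₀ h2 (by simp only [LinearMap.zero_apply]; linear_combination this)
  · have := Submodule.nontrivial_iff_ne_bot.2 hβ
    exact finrank_pos
  · by_contra H
    push Not at H
    obtain ⟨g, hg⟩ := hρ
    apply hg
    have : Nontrivial U := Module.nontrivial_of_finrank_pos (R := F) (by omega)
    obtain ⟨u, hu⟩ := exists_ne (0 : U)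
    have hK := eq_top_of_tv hB hA (MonoidHom.ker ρ.toHomUnits) fun v c => by
      refine MonoidHom.mem_ker.2 (Units.ext ?_)
      change ρ _ = 1
      rcases eq_or_ne v 0 with rfl | hv
      · rw [tv_zero_vec, map_one]
      obtain ⟨s, hs⟩ := witt_one hB hA (u := u) (by simpa using hu) hv
      have := conj_eq_one ρ (H (u, (c / 2) • u)) s
      change ρ (s * AutSp.eich hA u ((c / 2) • u) 0 * s⁻¹) = 1 at this
      rwa [AutSp.eich_smul, conj_tv, hs, zero_add, mul_div_cancel₀ _ h2] at this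
    exact congrArg Units.val (MonoidHom.mem_ker.1 (hK ▸ Subgroup.mem_top g : g ∈ ρ.toHomUnits.ker))

end bound

section weil
variable {F ι : Type*} [Field F] [Fintype F] [Fintype ι] [DecidableEq ι] [DecidableEq F]

/-- The Heisenberg operators. -/
noncomputable def Hs (v : ι ⊕ ι → F) : End ℂ ((ι → F) → ℂ) where
  toFun f x := ψ F ((v ∘ Sum.inr) ⬝ᵥ x + (v ∘ Sum.inl) ⬝ᵥ (v ∘ Sum.inr) / 2) * f (x + v ∘ Sum.inl)
  map_add' f g := by ext; simp [mul_add]
  map_smul' c f := by ext; simp [mul_left_comm]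

omit [DecidableEq ι] [DecidableEq F] in
theorem Hs_apply (v : ι ⊕ ι → F) (f : (ι → F) → ℂ) (x : ι → F) : Hs v f x =
  ψ F ((v ∘ Sum.inr) ⬝ᵥ x + (v ∘ Sum.inl) ⬝ᵥ (v ∘ Sum.inr) / 2) * f (x + v ∘ Sum.inl) := rfl

omit [Fintype F] [DecidableEq F] in
theorem sB_eq_dot (u v : ι ⊕ ι → F) : sB ι F u v =
    (u ∘ Sum.inr) ⬝ᵥ (v ∘ Sum.inl) - (u ∘ Sum.inl) ⬝ᵥ (v ∘ Sum.inr) := by
  rw [sB_eq_sum, Finset.sum_sub_distrib]; rfl

omit [DecidableEq F] in
theorem Hs_mul (h2 : (2 : F) ≠ 0) (u v : ι ⊕ ι → F) :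
    Hs u * Hs v = ψ F (-sB ι F u v / 2) • Hs (u + v) := by
  refine LinearMap.ext fun f => funext fun x => ?_
  simp only [End.mul_apply, Hs_apply, LinearMap.smul_apply, Pi.smul_apply, smul_eq_mul, ← mul_assoc,
    ← ψ_add, Pi.add_comp, add_assoc, sB_eq_dot]
  congr 2
  simp only [add_dotProduct, dotProduct_add, dotProduct_comm (v ∘ Sum.inr) (u ∘ Sum.inl),
    dotProduct_comm (u ∘ Sum.inr) (v ∘ Sum.inl)]
  field_simp
  ring

omit [DecidableEq F] [DecidableEq ι] in
theorem Hs_zero : Hs (0 : ι ⊕ ι → F) = 1 := by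
  refine LinearMap.ext fun f => funext fun x => ?_
  simp [Hs_apply, Pi.zero_comp]

theorem ψ_ne_zero (a : F) : ψ F a ≠ 0 := by
  intro h
  have := ψ_add a (-a)
  rw [h] at this; simp at this

theorem trace_Hs (h2 : (2 : F) ≠ 0) {v : ι ⊕ ι → F} (hv : v ≠ 0) :
    LinearMap.trace ℂ _ (Hs v) = 0 := by
  obtain ⟨y, hy⟩ := exists_one sB_nondeg sB_alt.isRefl hv
  obtain ⟨b, hb⟩ := exists_ψ_ne (F := F) one_ne_zero
  have e : Hs (b • y) * Hs v * Hs (-(b • y)) = ψ F (1 * b) • Hs v := by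
    rw [Hs_mul h2, smul_mul_assoc, Hs_mul h2, smul_smul, ← ψ_add]
    congr 2
    · simp only [map_add, map_neg, map_smul, LinearMap.add_apply, LinearMap.smul_apply, hy,
        smul_eq_mul, sB_alt.self_eq_zero, ← sB_alt.neg_eq v y]
      field_simp; ring
    · abel
  have := congrArg (LinearMap.trace ℂ _) e
  rw [LinearMap.trace_mul_cycle, Hs_mul h2, neg_add_cancel, Hs_zero, map_neg,
    LinearMap.neg_apply, sB_alt.self_eq_zero] at this
  simp only [neg_zero, zero_div,
    AddChar.map_zero_eq_one, one_smul, one_mul, map_smul, smul_eq_mul] at this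
  have h : (ψ F b - 1) * LinearMap.trace ℂ _ (Hs v) = 0 := by linear_combination -this
  exact (mul_eq_zero.1 h).resolve_left (sub_ne_zero.2 (by simpa using hb))

theorem linearIndependent_Hs (h2 : (2 : F) ≠ 0) :
    LinearIndependent ℂ (Hs : (ι ⊕ ι → F) → End ℂ ((ι → F) → ℂ)) := by
  rw [Fintype.linearIndependent_iff]
  intro c hc v
  have e := congrArg (fun f => LinearMap.trace ℂ _ (Hs (-v) * f)) hc
  simp only [Finset.mul_sum, map_sum, mul_smul_comm, map_smul, Hs_mul h2, mul_zero, map_zero] at e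
  rw [Finset.sum_eq_single v (fun a _ hab => by
    rw [trace_Hs h2 (fun h => hab (neg_add_eq_zero.1 h).symm)]; simp) (by simp)] at e
  simpa [Hs_zero, ψ_ne_zero] using e

/-- The Heisenberg operators as a basis. -/
noncomputable def HsB (h2 : (2 : F) ≠ 0) : Basis (ι ⊕ ι → F) ℂ (End ℂ ((ι → F) → ℂ)) :=
  basisOfLinearIndependentOfCardEqFinrank (linearIndependent_Hs h2) (by
    simp [Module.finrank_linearMap, pow_add])

theorem HsB_apply (h2 : (2 : F) ≠ 0) (v : ι ⊕ ι → F) : HsB h2 v = Hs v := by simp [HsB]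

theorem exists_inter (h2 : (2 : F) ≠ 0) (g : SG (sB ι F)) :
    ∃ T T' : End ℂ ((ι → F) → ℂ), T' * T = 1 ∧ T * T' = 1 ∧ ∀ v, T * Hs v = Hs (g.1 v) * T := by
  let e := (HsB (ι := ι) h2).equiv (HsB h2) g.1.toEquiv
  have he : ∀ v, e (Hs v) = Hs (g.1 v) := fun v => by
    rw [← HsB_apply h2, Basis.equiv_apply, HsB_apply]; rfl
  have hm : ∀ a b, e (a * b) = e a * e b := by
    have : (LinearMap.mul ℂ _).compr₂ e.toLinearMap =
        (LinearMap.mul ℂ _).compl₁₂ e.toLinearMap e.toLinearMap :=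
      (HsB h2).ext fun u => (HsB h2).ext fun v => by
        simp only [LinearMap.compr₂_apply, LinearMap.mul_apply', LinearMap.compl₁₂_apply,
          HsB_apply, LinearEquiv.coe_coe, he, Hs_mul h2, map_smul, map_add, SG.map]
    exact fun a b => LinearMap.congr_fun₂ this a b
  obtain ⟨T, hT⟩ := (AlgEquiv.ofLinearEquiv e (by rw [← Hs_zero, he, map_zero]) hm
    ).eq_linearEquivConjAlgEquiv
  refine ⟨T.toLinearMap, T.symm.toLinearMap, LinearMap.ext fun f => by simp,
    LinearMap.ext fun f => by simp, fun v => ?_⟩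
  have := congrArg (fun φ => φ (Hs v)) hT
  simp only [AlgEquiv.ofLinearEquiv_apply, he] at this
  rw [this]
  refine LinearMap.ext fun f => ?_
  simp [LinearEquiv.conjAlgEquiv_apply]

theorem scalar_of_comm (h2 : (2 : F) ≠ 0) {T : End ℂ ((ι → F) → ℂ)}
    (h : ∀ v, T * Hs v = Hs v * T) : ∃ c : ℂ, T = c • 1 := by
  have : LinearMap.mulLeft ℂ T = LinearMap.mulRight ℂ T :=
    (HsB h2).ext fun v => by simpa [HsB_apply] using h v
  have hc : T ∈ Subalgebra.center ℂ (End ℂ ((ι → F) → ℂ)) :=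
    Subalgebra.mem_center_iff.2 fun b => (LinearMap.congr_fun this b).symm
  rw [Algebra.IsCentral.center_eq_bot, Algebra.mem_bot] at hc
  obtain ⟨c, rfl⟩ := hc
  exact ⟨c, Algebra.algebraMap_eq_smul_one c⟩

variable (F ι) in
/-- The parity operator. -/
noncomputable def Par : End ℂ ((ι → F) → ℂ) := LinearMap.funLeft ℂ ℂ Neg.neg

omit [Fintype F] [Fintype ι] [DecidableEq ι] [DecidableEq F] in
theorem Par_apply (f : (ι → F) → ℂ) (x : ι → F) : Par F ι f x = f (-x) := rfl

omit [Fintype F] [Fintype ι] [DecidableEq ι] [DecidableEq F] in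
theorem Par_mul_Par : Par F ι * Par F ι = 1 :=
  LinearMap.ext fun f => funext fun x => by simp [Par_apply]

omit [DecidableEq ι] [DecidableEq F] in
theorem Par_mul_Hs (v : ι ⊕ ι → F) : Par F ι * Hs v = Hs (-v) * Par F ι :=
  LinearMap.ext fun f => funext fun x => by
    simp [Par_apply, Hs_apply, Pi.neg_comp, add_comm]

theorem trace_Par (h2 : (2 : F) ≠ 0) : LinearMap.trace ℂ _ (Par F ι) = 1 := by
  rw [LinearMap.trace_eq_matrix_trace ℂ (Pi.basisFun ℂ (ι → F)), Matrix.trace,
    Finset.sum_eq_single 0]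
  · simp [LinearMap.toMatrix_apply, Par_apply]
  · intro x _ hx
    have : -x ≠ x := fun h => hx (by
      have : (2 : F) • x = 0 := by rw [two_smul]; exact neg_eq_iff_add_eq_zero.1 h
      exact (smul_eq_zero.1 this).resolve_left h2)
    simp [LinearMap.toMatrix_apply, Par_apply, this]
  · simp

theorem comm_Par (h2 : (2 : F) ≠ 0) {g : SG (sB ι F)} {T T' : End ℂ ((ι → F) → ℂ)}
    (i1 : T' * T = 1) (i2 : T * T' = 1) (hT : ∀ v, T * Hs v = Hs (g.1 v) * T) :
    T * Par F ι = Par F ι * T := by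
  have hT' : ∀ v, T' * Hs (g.1 v) = Hs v * T' := fun v => by
    calc _ = T' * (Hs (g.1 v) * T) * T' := by simp only [mul_assoc, i2, mul_one]
      _ = _ := by rw [← hT, ← mul_assoc, i1, one_mul]
  obtain ⟨c, hc⟩ := scalar_of_comm h2 (T := Par F ι * T' * Par F ι * T) fun v => by
    calc _ = Par F ι * T' * Par F ι * (T * Hs v) := by simp only [mul_assoc]
      _ = Par F ι * (T' * ((Par F ι * Hs (g.1 v)) * T)) := by rw [hT]; simp only [mul_assoc]
      _ = Par F ι * ((T' * Hs (g.1 (-v))) * Par F ι * T) := by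
          rw [Par_mul_Hs, map_neg]; simp only [mul_assoc]
      _ = (Par F ι * Hs (-v)) * (T' * Par F ι * T) := by rw [hT']; simp only [mul_assoc]
      _ = _ := by rw [Par_mul_Hs, neg_neg]; simp only [mul_assoc]
  have e : T' * Par F ι * T = c • Par F ι := by
    calc _ = Par F ι * (Par F ι * T' * Par F ι * T) := by
          simp only [← mul_assoc, Par_mul_Par, one_mul]
      _ = _ := by rw [hc]; simp
  have := congrArg (LinearMap.trace ℂ _) e
  rw [LinearMap.trace_mul_cycle, i2, one_mul, map_smul, trace_Par h2, smul_eq_mul, mul_one] at this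
  rw [← this, one_smul] at e
  calc _ = T * (T' * Par F ι * T) := by rw [e]
    _ = _ := by simp only [← mul_assoc, i2, one_mul]

variable (F ι) in
/-- The eigenspaces of the parity operator. -/
noncomputable def Ev (s : ℂ) : Submodule ℂ ((ι → F) → ℂ) := End.eigenspace (Par F ι) s

omit [Fintype F] [Fintype ι] [DecidableEq ι] [DecidableEq F] in
theorem mem_Ev {s : ℂ} {f : (ι → F) → ℂ} : f ∈ Ev F ι s ↔ Par F ι f = s • f :=
  End.mem_eigenspace_iff

theorem finrank_Ev (h2 : (2 : F) ≠ 0) {s : ℂ} (hs : s * s = 1) :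
    (2 * finrank ℂ (Ev F ι s) : ℂ) = Fintype.card F ^ Fintype.card ι + s := by
  have : LinearMap.IsProj (Ev F ι s) ((2 : ℂ)⁻¹ • (1 + s • Par F ι)) := ⟨fun f => mem_Ev.2 (by
      ext x
      simp only [LinearMap.smul_apply, LinearMap.add_apply, End.one_apply, Par_apply, Pi.smul_apply,
        Pi.add_apply, smul_eq_mul, neg_neg]
      linear_combination (-2⁻¹ * f (-x)) * hs), fun f hf => by
      simp only [LinearMap.smul_apply, LinearMap.add_apply, End.one_apply, mem_Ev.1 hf, smul_smul,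
        hs]
      module⟩
  rw [← this.trace, map_smul, map_add, map_smul, trace_Par h2]
  simp

/-- Restriction to an eigenspace of the parity operator. -/
noncomputable def resEv (s : ℂ) : Submonoid.centralizer {Par F ι} →* End ℂ (Ev F ι s) where
  toFun T := T.1.restrict (p := Ev F ι s) (q := Ev F ι s) fun f hf => mem_Ev.2 (by
    rw [← End.mul_apply, T.2 _ rfl, End.mul_apply, mem_Ev.1 hf, map_smul])
  map_one' := rfl
  map_mul' _ _ := rfl

theorem exists_weil (h2 : (2 : F) ≠ 0) : ∃ ω : SG (sB ι F) →* Submonoid.centralizer {Par F ι},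
    ∀ g v, (ω g).1 * Hs v = Hs (g.1 v) * (ω g).1 := by
  have hd : finrank ℂ (Ev F ι 1) = finrank ℂ (Ev F ι (-1)) + 1 := by
    have h1 := finrank_Ev (ι := ι) h2 (s := 1) (by simp)
    have h2 := finrank_Ev (ι := ι) h2 (s := -1) (by simp)
    have : (finrank ℂ (Ev F ι 1) : ℂ) = finrank ℂ (Ev F ι (-1)) + 1 := by
      linear_combination (h1 - h2) / 2
    exact_mod_cast this
  let D (s : ℂ) : Submonoid.centralizer {Par F ι} →* ℂ := LinearMap.det.comp (resEv s)
  let sc (c : ℂ) : Submonoid.centralizer {Par F ι} := ⟨c • 1, by rintro _ rfl; simp⟩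
  have hsc : ∀ s c, D s (sc c) = c ^ finrank ℂ (Ev F ι s) := fun s c => by
    have : resEv s (sc c) = c • 1 := rfl
    simp only [D, MonoidHom.comp_apply, this, LinearMap.det_smul, map_one, mul_one]
  have ex : ∀ g : SG (sB ι F), ∃ T : Submonoid.centralizer {Par F ι}, IsUnit T ∧
      (∀ v, T.1 * Hs v = Hs (g.1 v) * T.1) ∧ D 1 T = D (-1) T := fun g => by
    obtain ⟨T, T', i1, i2, hT⟩ := exists_inter h2 g
    have hc := comm_Par h2 i1 i2 hT
    let T₁ : Submonoid.centralizer {Par F ι} := ⟨T, by rintro _ rfl; exact hc.symm⟩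
    let T₂ : Submonoid.centralizer {Par F ι} := ⟨T', by
      rintro _ rfl
      calc _ = T' * (T * Par F ι) * T' := by
            simp only [← mul_assoc, i1, one_mul]
        _ = _ := by rw [hc]; simp only [mul_assoc, i2, mul_one]⟩
    have hu : IsUnit T₁ := ⟨⟨T₁, T₂, Subtype.ext i2, Subtype.ext i1⟩, rfl⟩
    have h1 : D 1 T₁ ≠ 0 := (hu.map (D 1)).ne_zero
    have h2 : D (-1) T₁ ≠ 0 := (hu.map (D (-1))).ne_zero
    have hc0 : D (-1) T₁ / D 1 T₁ ≠ 0 := div_ne_zero h2 h1
    refine ⟨sc (D (-1) T₁ / D 1 T₁) * T₁, IsUnit.mul ⟨⟨_, sc (D (-1) T₁ / D 1 T₁)⁻¹,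
      Subtype.ext (by simp [sc, smul_smul, h1, h2]), Subtype.ext (by simp [sc, smul_smul, h1, h2])⟩,
      rfl⟩ hu, fun v => ?_, ?_⟩
    · simp [sc, T₁, hT]
    · rw [map_mul, map_mul, hsc, hsc, hd, pow_succ]; field_simp
  choose T hu hT hD using ex
  have uniq : ∀ g (T' : Submonoid.centralizer {Par F ι}), IsUnit T' →
      (∀ v, T'.1 * Hs v = Hs (g.1 v) * T'.1) → D 1 T' = D (-1) T' → T' = T g := by
    intro g T' hu' h' hD'
    obtain ⟨u, hu⟩ := hu g
    have i1 : (u⁻¹).1.1 * (T g).1 = 1 := by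
      rw [← hu]; exact congrArg Subtype.val u.inv_mul
    have i2 : (T g).1 * (u⁻¹).1.1 = 1 := by
      rw [← hu]; exact congrArg Subtype.val u.mul_inv
    obtain ⟨c, hc⟩ := scalar_of_comm h2 (T := (u⁻¹).1.1 * T'.1) fun v => by
      calc _ = (u⁻¹).1.1 * (Hs (g.1 v) * ((T g).1 * (u⁻¹).1.1) * T'.1) := by
            rw [mul_assoc, h', i2, mul_one]
        _ = _ := by rw [← mul_assoc (Hs _), ← hT]; simp only [← mul_assoc, i1, one_mul]
    have e : T' = sc c * T g := Subtype.ext (by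
      calc T'.1 = (T g).1 * ((u⁻¹).1.1 * T'.1) := by rw [← mul_assoc, i2, one_mul]
        _ = _ := by rw [hc]; simp [sc])
    have h1 : D (-1) T' ≠ 0 := (hu'.map (D (-1))).ne_zero
    rw [e, map_mul, map_mul, hsc, hsc, hd, pow_succ, hD] at hD'
    rw [e, map_mul, hsc] at h1
    have : c = 1 := mul_left_cancel₀ h1 (by linear_combination hD')
    rw [e, this]; exact Subtype.ext (by simp [sc])
  refine ⟨⟨⟨T, (uniq 1 1 isUnit_one (fun v => by simp) (by simp)).symm⟩,
    fun g h => (uniq _ _ ((hu g).mul (hu h)) (fun v => ?_) ?_).symm⟩, hT⟩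
  · rw [Submonoid.coe_mul, mul_assoc, hT, ← mul_assoc, hT, mul_assoc]; rfl
  · rw [map_mul, map_mul, hD, hD]

theorem exists_weil_odd (h2 : (2 : F) ≠ 0) (hι : 2 ≤ Fintype.card ι) :
    ∃ ρ : Representation ℂ (SG (sB ι F)) (Ev F ι (-1)), ∃ g, ρ g ≠ 1 := by
  obtain ⟨ω, hω⟩ := exists_weil (ι := ι) h2
  refine ⟨(resEv (-1)).comp ω, ?_⟩
  by_contra H
  push Not at H
  obtain ⟨i, j, hij⟩ := Fintype.exists_pair_of_one_lt_card hι
  obtain ⟨b, hb⟩ := exists_ψ_ne (F := F) one_ne_zero
  have hb0 : b ≠ 0 := by rintro rfl; simp at hb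
  obtain ⟨g, hg⟩ := witt_one sB_nondeg sB_alt (u := Pi.single (Sum.inr j) (1 : F))
    (v := (Pi.single (Sum.inr i) b : ι ⊕ ι → F)) (by simp) (by simpa using hb0)
  let x : ι → F := Pi.single i 1
  have hx : -x ≠ x := fun h => h2 (by
    have := congrFun h i
    simp only [x, Pi.neg_apply, Pi.single_eq_same] at this
    linear_combination -this)
  let f : (ι → F) → ℂ := Pi.single x 1 - Pi.single (-x) 1
  have hf : f ∈ Ev F ι (-1) := mem_Ev.2 (by
    ext y; simp [f, Par_apply, Pi.single_apply, neg_eq_iff_eq_neg])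
  have fix : ∀ f ∈ Ev F ι (-1), (ω g).1 f = f := fun f hf =>
    congrArg Subtype.val (LinearMap.congr_fun (H g) ⟨f, hf⟩)
  have key : ∀ v, (Hs v + Hs (-v)) f ∈ Ev F ι (-1) := fun v => mem_Ev.2 (by
    rw [← End.mul_apply, mul_add, Par_mul_Hs, Par_mul_Hs, neg_neg, ← add_mul, End.mul_apply,
      mem_Ev.1 hf, map_smul, add_comm])
  have e := fix _ (key (Pi.single (Sum.inr j) 1))
  rw [← End.mul_apply, mul_add, hω, hω, map_neg, ← add_mul, End.mul_apply, fix f hf, hg] at e
  have e' := congrFun e x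
  have c1 : ∀ (k : ι) (c : F), (Pi.single (Sum.inr k) c : ι ⊕ ι → F) ∘ Sum.inl = 0 := fun k c => by
    ext; simp
  have c2 : ∀ (k : ι) (c : F), (Pi.single (Sum.inr k) c : ι ⊕ ι → F) ∘ Sum.inr = Pi.single k c :=
    fun k c => by ext; simp [Pi.single_apply]
  simp only [LinearMap.add_apply, Pi.add_apply, Hs_apply, Pi.neg_comp, c1, c2, neg_zero, add_zero,
    zero_dotProduct, zero_div, neg_dotProduct, single_dotProduct, f, Pi.sub_apply,
    Pi.single_eq_same, Pi.single_eq_of_ne hx.symm, sub_zero, mul_one, x,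
    Pi.single_eq_of_ne hij.symm, mul_zero, AddChar.map_zero_eq_one] at e'
  have h1 : ψ F b * ψ F (-b) = 1 := by rw [← ψ_add]; simp
  have : (ψ F b - 1) ^ 2 = 0 := by linear_combination ψ F b * e' - h1
  exact hb (by simpa [sub_eq_zero] using this)

end weil

end Cfsg.Agent.Classical.LS
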