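import Mathlib
import Cfsg.Agent.Classical.Weil

/-!
# The Landazuri–Seitz bound for symplectic groups in characteristic two
-/

set_option autoImplicit false
set_option backward.isDefEq.respectTransparency false

namespace Cfsg.Agent.Classical.LS

open Module QuadraticMap Cfsg.Agent.Classical.SpWitt

section count
variable {F U : Type*} [Field F] [AddCommGroup U] [Module F U]

theorem exists_equiv_pair {x y x' y' : U} (h : LinearIndependent F ![x, y])
    (h' : LinearIndependent F ![x', y']) : ∃ g : U ≃ₗ[F] U, g x = x' ∧ g y = y' := by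
  have q0 {x y : U} (h : LinearIndependent F ![x, y]) :
    h.linearCombinationEquiv (Finsupp.single 0 1) = x := by simp
  have q1 {x y : U} (h : LinearIndependent F ![x, y]) :
    h.linearCombinationEquiv (Finsupp.single 1 1) = y := by simp
  let f := h.linearCombinationEquiv.symm ≪≫ₗ h'.linearCombinationEquiv
  have : FiniteDimensional F (Submodule.span F (Set.range ![x, y])) :=
    FiniteDimensional.span_of_finite F (Set.finite_range _)
  obtain ⟨g, hg⟩ := Submodule.exists_linearEquiv_restrict_eq f
  exact ⟨g, by rw [← q0 h, ← hg]; simp [f], by rw [← q1 h, ← hg]; simp [f]⟩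

theorem map_add_smul (Q : QuadraticForm F U) (x y : U) (t : F) :
    Q (y + t • x) = Q y + t * polar Q x y + t * t * Q x := by
  rw [QuadraticMap.map_add Q, Q.map_smul, polar_smul_right, polar_comm]
  simp only [smul_eq_mul]; ring

variable [Fintype F] [Fintype U]

theorem card_ann_two {x y : U} (h : LinearIndependent F ![x, y]) :
    Nat.card (Submodule.span F (Set.range ![x, y])).dualAnnihilator =
      Fintype.card F ^ (finrank F U - 2) := by
  have : Finite (Dual F U) := Finite.of_injective _ DFunLike.coe_injective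
  have h1 := Subspace.finrank_add_finrank_dualAnnihilator_eq (Submodule.span F (Set.range ![x, y]))
  rw [finrank_span_eq_card h, Fintype.card_fin] at h1
  rw [Module.natCard_eq_pow_finrank (K := F), Nat.card_eq_fintype_card, ← h1]; simp

open scoped _root_.Classical in
theorem card_val_le (h2 : (2 : F) = 0) (Q : QuadraticForm F U) {x y : U} (hx : Q x ≠ 0)
    (hy : polar Q x y ≠ 0) (hn : 2 ≤ finrank F U) :
    Finset.card {z | Q z = Q x} ≤ (Fintype.card F + 1) * Fintype.card F ^ (finrank F U - 2) := by
  have : CharP F 2 := CharTwo.of_one_ne_zero_of_two_eq_zero one_ne_zero h2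
  obtain ⟨k, hk⟩ : ∃ k, finrank F U = k + 2 := ⟨_, (Nat.sub_add_cancel hn).symm⟩
  have hq : 2 ≤ Fintype.card F := Fintype.one_lt_card
  have sq : Function.Bijective fun a : F => a * a :=
    Finite.injective_iff_bijective.1 fun a b h => by
      have := frobenius_inj F 2 (a₁ := a) (a₂ := b) (by simpa [frobenius_def, pow_two] using h)
      exact this
  have h1 : Fintype.card F ^ (k + 1) ≤ Fintype.card F * Finset.card {z | Q z = 0} := by
    have hf : Q.polarBilin x ≠ 0 := fun h => hy (LinearMap.congr_fun h y)
    have := card_ker hf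
    rw [hk] at this
    choose s hs using fun z => sq.2 (Q z / Q x)
    refine this.symm.le.trans ?_
    rw [← Nat.card_eq_finsetCard, ← Nat.card_eq_fintype_card (α := F), ← Nat.card_prod]
    refine Nat.card_le_card_of_injective
      (fun z => (s z.1, ⟨z.1 + s z.1 • x, ?_⟩)) fun z w h => ?_
    · have h0 : polar Q x z.1 = 0 := z.2
      simp only [Finset.mem_filter, Finset.mem_univ, true_and, map_add_smul, h0, hs z.1]
      rw [div_mul_cancel₀ _ hx]; linear_combination Q z.1 * h2
    · have e1 : s z.1 = s w.1 := congrArg Prod.fst h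
      have e2 : z.1 + s z.1 • x = w.1 + s w.1 • x := congrArg (fun p => p.2.1) h
      rw [e1] at e2
      exact Subtype.ext (add_right_cancel e2)
  have h3 : (Fintype.card F - 1) * Finset.card {z | Q z = Q x} ≤ Finset.card {z | ¬ Q z = 0} := by
    rw [← Fintype.card_units, ← Finset.card_univ, ← Finset.card_product]
    refine Finset.card_le_card_of_injOn (fun p => (p.1 : F) • p.2) (fun p hp => ?_) fun p hp r hr h => ?_
    · simp only [Finset.coe_product, Set.mem_prod, Finset.coe_filter, Finset.mem_univ, true_and,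
        Set.mem_setOf_eq] at hp ⊢
      simp [Q.map_smul, hp.2, hx]
    · simp only [Finset.coe_product, Set.mem_prod, Finset.coe_filter, Finset.mem_univ, true_and,
        Set.mem_setOf_eq] at hp hr h
      have e := congrArg Q h
      rw [Q.map_smul, Q.map_smul, hp.2, hr.2] at e
      have e1 : (p.1 : F) = r.1 := sq.1 (mul_right_cancel₀ hx e)
      rw [e1] at h
      exact Prod.ext (Units.ext e1) (smul_right_injective U r.1.ne_zero h)
  have h4 := Finset.card_filter_add_card_filter_not (s := (Finset.univ : Finset U)) fun z => Q z = 0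
  rw [Finset.card_univ, Module.card_eq_pow_finrank (K := F), hk] at h4
  rw [hk, Nat.add_sub_cancel]
  rw [pow_succ'] at h1
  have h5 := Nat.le_of_mul_le_mul_left h1 (by omega)
  refine Nat.le_of_mul_le_mul_left (h3.trans ?_) (show 0 < Fintype.card F - 1 by omega)
  have : (Fintype.card F - 1) * ((Fintype.card F + 1) * Fintype.card F ^ k) + Fintype.card F ^ k =
      Fintype.card F ^ (k + 2) := by
    zify [show 1 ≤ Fintype.card F by omega]; ring
  omega

open scoped _root_.Classical in
theorem card_snd_le (Q : QuadraticForm F U) {x : U} (h0 : polar Q x x = 0) (β : F)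
    (hn : 2 ≤ finrank F U) :
    Finset.card {y | Q y = β ∧ polar Q x y = 1} ≤ 2 * Fintype.card F ^ (finrank F U - 2) := by
  obtain ⟨k, hk⟩ : ∃ k, finrank F U = k + 2 := ⟨_, (Nat.sub_add_cancel hn).symm⟩
  rcases Finset.eq_empty_or_nonempty ({y | Q y = β ∧ polar Q x y = 1} : Finset U) with h | ⟨y, hy⟩
  · simp [h]
  have hy := (Finset.mem_filter.1 hy).2.2
  have hf : Q.polarBilin x ≠ 0 := fun h => by
    have := LinearMap.congr_fun h y
    simp [hy] at this
  have h1 := card_ker hf
  rw [hk] at h1 ⊢
  have h2 := Finset.card_le_mul_card_image_of_maps_to (n := 2)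
    (s := (Finset.univ : Finset F) ×ˢ ({y | Q y = β ∧ polar Q x y = 1} : Finset U))
    (t := {z | polar Q x z = 0}) (f := fun p => p.2 + p.1 • x - y)
    (fun p hp => by
      have := (Finset.mem_filter.1 (Finset.mem_product.1 hp).2).2.2
      simp [this, h0, hy])
    fun z hz => by
      have hz := (Finset.mem_filter.1 hz).2
      let P : Polynomial F := Polynomial.C (Q x) * Polynomial.X ^ 2 + Polynomial.C (-1) * Polynomial.X +
        Polynomial.C (Q (z + y) - β)
      have hP : P ≠ 0 := fun h => by
        have := congrArg (·.coeff 1) h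
        simp [P] at this
      refine (Finset.card_le_card_of_injOn (t := P.roots.toFinset) (fun p => p.1) (fun p hp => ?_)
        fun p hp r hr h => ?_).trans ((Multiset.toFinset_card_le _).trans
          ((Polynomial.card_roots' P).trans Polynomial.natDegree_quadratic_le))
      · simp only [Finset.coe_filter, Finset.mem_product, Finset.mem_univ, Finset.mem_filter,
          true_and, Set.mem_setOf_eq] at hp
        obtain ⟨⟨e1, e2⟩, e3⟩ := hp
        have e4 : p.2 = z + y + (-p.1) • x := by rw [← e3]; module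
        rw [e4, map_add_smul] at e1
        simp only [polar_add_right, hz, hy] at e1
        simp only [Multiset.mem_toFinset, Finset.mem_coe, Polynomial.mem_roots hP, Polynomial.IsRoot.def]
        simp only [P, Polynomial.eval_add, Polynomial.eval_mul, Polynomial.eval_C, Polynomial.eval_pow,
          Polynomial.eval_X]
        linear_combination e1
      · have e1 := (Finset.mem_filter.1 hp).2
        have e2 := (Finset.mem_filter.1 hr).2
        simp only at h e1 e2
        refine Prod.ext h ?_
        rw [← e2, h] at e1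
        simpa using e1
  have h3 : Finset.card {z | polar Q x z = 0} = Fintype.card F ^ (k + 1) := by
    rw [← Nat.card_eq_finsetCard]
    exact (Nat.card_congr (Equiv.subtypeEquivRight fun z => by simp)).trans h1
  rw [Finset.card_product, Finset.card_univ, h3, pow_succ', mul_left_comm] at h2
  exact Nat.le_of_mul_le_mul_left h2 Fintype.card_pos

open scoped _root_.Classical in
theorem card_pairs : Finset.card {p : U × U | LinearIndependent F ![p.1, p.2]} =
    (Fintype.card F ^ finrank F U - 1) * (Fintype.card F ^ finrank F U - Fintype.card F) := by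
  rw [Finset.card_eq_sum_card_fiberwise (f := Prod.fst) (t := Finset.univ.erase 0)
    (fun p hp => by simpa using (Finset.mem_filter.1 hp).2.ne_zero 0),
    Finset.sum_const_nat (m := Fintype.card F ^ finrank F U - Fintype.card F),
    Finset.card_erase_of_mem (Finset.mem_univ _), Finset.card_univ, Module.card_eq_pow_finrank (K := F)]
  intro x hx
  have hx := Finset.ne_of_mem_erase hx
  rw [← Module.card_eq_pow_finrank (K := F), ← Finset.card_univ, ← Finset.card_univ,
    ← Finset.card_image_of_injective _ (smul_left_injective F hx), ← Finset.card_sdiff_of_subset (by simp)]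
  refine Finset.card_bij (fun p _ => p.2) (fun p hp => ?_) (fun p hp r hr h => ?_) fun y hy => ?_
  · obtain ⟨h1, rfl⟩ := Finset.mem_filter.1 hp
    simpa using (LinearIndependent.pair_iff' hx).1 (Finset.mem_filter.1 h1).2
  · exact Prod.ext ((Finset.mem_filter.1 hp).2.trans (Finset.mem_filter.1 hr).2.symm) h
  · exact ⟨(x, y), by simpa [LinearIndependent.pair_iff' hx] using hy, rfl⟩

theorem orbit_bound (h2 : (2 : F) = 0) (O : Finset (QuadraticForm F U))
    (hO : ∀ Q ∈ O, ∀ γ : U →ₗ[F] U, Function.Injective γ → Q.comp γ ∈ O) {Q : QuadraticForm F U}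
    (hQ : Q ∈ O) {u v : U} (h : polar Q u v ≠ 0) :
    (Fintype.card F ^ finrank F U - 1) * (Fintype.card F ^ finrank F U - Fintype.card F) ≤
      2 * (Fintype.card F + 1) * O.card := by
  classical
  have alt : ∀ (Q : QuadraticForm F U) x, polar Q x x = 0 := fun Q x => by
    rw [polar_self, ← Nat.cast_smul_eq_nsmul F]; simp [h2]
  obtain ⟨x₀, y₀, hx, hy⟩ : ∃ x y, Q x ≠ 0 ∧ polar Q x y = 1 := by
    have key : ∀ x y, Q x ≠ 0 → polar Q x y ≠ 0 → ∃ x y, Q x ≠ 0 ∧ polar Q x y = 1 :=
      fun x y hx hy => ⟨x, (polar Q x y)⁻¹ • y, hx, by simp [hy]⟩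
    by_cases hu : Q u = 0
    · by_cases hv : Q v = 0
      · exact key (u + v) v (by simpa [QuadraticMap.map_add Q, hu, hv] using h) (by simpa [alt])
      · exact key v u hv (by rwa [polar_comm])
    · exact key u v hu h
  have li : LinearIndependent F ![x₀, y₀] :=
    (LinearIndependent.pair_iff' (by rintro rfl; simp at hx)).2 fun a ha => by
      simp [← ha, alt] at hy
  have hn : 2 ≤ finrank F U := by simpa using li.fintype_card_le_finrank
  set N := Fintype.card F ^ (finrank F U - 2) with hN
  have key := Finset.card_mul_le_card_mul (s := {p : U × U | LinearIndependent F ![p.1, p.2]})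
    (t := O) (m := N * N) (n := (Fintype.card F + 1) * N * (2 * N))
    (fun p (Q' : QuadraticForm F U) => Q' p.1 = Q x₀ ∧ Q' p.2 = Q y₀ ∧ polar Q' p.1 p.2 = 1) (fun p hp => ?_)
    (fun Q' hQ' => ?_)
  · rw [card_pairs] at key
    refine Nat.le_of_mul_le_mul_right (key.trans (le_of_eq (by ring))) (c := N * N) ?_
    have := Fintype.card_pos (α := F)
    positivity
  · obtain ⟨x, y⟩ := p
    have hp := (Finset.mem_filter.1 hp).2
    obtain ⟨g, g1, g2⟩ := exists_equiv_pair hp li
    have h1 := hO Q hQ g g.injective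
    have e1 : Q.comp g.toLinearMap x = Q x₀ := by simp [← g1]
    have e2 : Q.comp g.toLinearMap y = Q y₀ := by simp [← g2]
    have e3 : polar (Q.comp g.toLinearMap) x y = 1 := by simp [← hy, ← g1, ← g2, polar]
    generalize Q.comp g.toLinearMap = Q₁ at *
    have : Finite (Dual F U) := Finite.of_injective _ DFunLike.coe_injective
    rw [hN, ← card_ann_two hp, ← Nat.card_prod, ← Nat.card_eq_finsetCard]
    have a1 : ∀ f : (Submodule.span F (Set.range ![x, y])).dualAnnihilator, f.1 x = 0 := fun f =>
      (Submodule.mem_dualAnnihilator _).1 f.2 _ (Submodule.subset_span ⟨0, rfl⟩)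
    have a2 : ∀ f : (Submodule.span F (Set.range ![x, y])).dualAnnihilator, f.1 y = 0 := fun f =>
      (Submodule.mem_dualAnnihilator _).1 f.2 _ (Submodule.subset_span ⟨1, rfl⟩)
    have pc : ∀ (γ : U →ₗ[F] U) a b, polar (Q₁.comp γ) a b = polar Q₁ (γ a) (γ b) := fun γ a b => by
      simp [polar]
    refine Nat.card_le_card_of_injective (fun f => ⟨Q₁.comp
      (LinearMap.id + f.1.1.smulRight x + f.2.1.smulRight y), ?_⟩) fun f f' e => ?_
    · simp only [Finset.bipartiteAbove, Finset.mem_filter, pc]
      refine ⟨hO _ h1 _ ((injective_iff_map_eq_zero _).2 fun z hz => ?_), by simp [a1, e1],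
        by simp [a2, e2], by simp [a1, a2, e3]⟩
      have h3 : z + f.1.1 z • x + f.2.1 z • y = 0 := hz
      have h4 : f.1.1 z = 0 := by simpa [a1, a2] using congrArg f.1.1 h3
      have h5 : f.2.1 z = 0 := by simpa [a1, a2] using congrArg f.2.1 h3
      simpa [h4, h5] using h3
    · refine Prod.ext (Subtype.ext (LinearMap.ext fun z => ?_)) (Subtype.ext (LinearMap.ext fun z => ?_))
      · have := congrArg (fun h => polar h.1 z y) e
        simpa [pc, a2, e3, alt] using this
      · have := congrArg (fun h => polar h.1 x z) e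
        simpa [pc, a1, e3, alt] using this
  · rcases Finset.eq_empty_or_nonempty (Finset.bipartiteBelow (fun (p : U × U) (Q' : QuadraticForm F U) =>
        Q' p.1 = Q x₀ ∧ Q' p.2 = Q y₀ ∧ polar Q' p.1 p.2 = 1)
        {p : U × U | LinearIndependent F ![p.1, p.2]} Q') with h | ⟨⟨x, y⟩, hp⟩
    · simp [h]
    obtain ⟨e1, -, e3⟩ := (Finset.mem_filter.1 hp).2
    simp only at e1 e3
    refine (Finset.card_le_mul_card_image_of_maps_to (f := Prod.fst) (n := 2 * N)
      (t := {z | Q' z = Q' x}) (fun p hp => by
        simpa [e1] using (Finset.mem_filter.1 hp).2.1) fun z _ => ?_).trans ?_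
    · refine le_trans ?_ (card_snd_le Q' (alt Q' z) (Q y₀) hn)
      refine Finset.card_le_card_of_injOn Prod.snd (fun p hp => ?_) fun p hp r hr h => ?_
      · obtain ⟨h1, rfl⟩ := Finset.mem_filter.1 hp
        simpa using (Finset.mem_filter.1 h1).2.2
      · exact Prod.ext ((Finset.mem_filter.1 hp).2.trans (Finset.mem_filter.1 hr).2.symm) h
    · rw [mul_comm]
      exact Nat.mul_le_mul_right _ (card_val_le h2 Q' (e1 ▸ hx) (e3 ▸ one_ne_zero) hn)

end count

variable {F V : Type*} [Field F] [Fintype F] [AddCommGroup V] [Module F V] [FiniteDimensional F V]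
  {B : LinearMap.BilinForm F V} (hB : B.Nondegenerate) (hA : B.IsAlt) {U : Submodule F V}
  (hU : ∀ u ∈ U, ∀ v ∈ U, B u v = 0)

/-- The isometries acting trivially on `U` and on `V / U`. -/
def RS (B : LinearMap.BilinForm F V) (U : Submodule F V) : Subgroup (SG B) where
  carrier := {g | (∀ u ∈ U, g.1 u = u) ∧ ∀ x, g.1 x - x ∈ U}
  one_mem' := ⟨fun _ _ => rfl, fun x => by simp [SG.one_apply]⟩
  mul_mem' {g h} hg hh := ⟨fun u hu => by rw [SG.mul_apply, hh.1 u hu, hg.1 u hu], fun x => by
    have := U.add_mem (hg.2 (h.1 x)) (hh.2 x)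
    rwa [sub_add_sub_cancel] at this⟩
  inv_mem' {g} hg := ⟨fun u hu => by nth_rw 1 [← hg.1 u hu]; exact SG.inv_apply g u, fun x => by
    have := U.neg_mem (hg.2 ((g⁻¹).1 x))
    rwa [SG.apply_inv, neg_sub] at this⟩

include hB hA hU in
theorem sp_even_bound (h2 : (2 : F) = 0) (hn : 2 ≤ finrank F U) (hc : commutator (SG B) = ⊤)
    {W : Type*} [AddCommGroup W] [Module ℂ W] [FiniteDimensional ℂ W]
    (ρ : Representation ℂ (SG B) W) (hρ : ∃ g, ρ g ≠ 1) :
    (Fintype.card F ^ finrank F U - 1) * (Fintype.card F ^ finrank F U - Fintype.card F) ≤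
      2 * (Fintype.card F + 1) * finrank ℂ W := by
  classical
  have : Finite V := Module.finite_of_finite F
  have : Finite (SG B) := Finite.of_injective (fun g : SG B => (g.1 : V → V))
    fun _ _ h => SG.ext (congrFun h)
  have := Fintype.ofFinite U
  have : Finite (QuadraticForm F U) := Finite.of_injective _ DFunLike.coe_injective
  have := Fintype.ofFinite (QuadraticForm F U)
  have H := siegS hB hA hU hn
  let x : RS B U → SG B := Subtype.val
  have hx : ∀ g h, Commute (x g) (x h) := fun g h => SG.ext fun z => by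
    have e : ∀ g h : RS B U, g.1.1 (h.1.1 z) = g.1.1 z + (h.1.1 z - z) := fun g h => by
      rw [← g.2.1 _ (h.2.2 z), ← map_add, add_sub_cancel]
    change g.1.1 (h.1.1 z) = h.1.1 (g.1.1 z)
    rw [e g h, e h g]; abel
  let t : U → F → RS B U := fun u c => ⟨tv hA u c, fun v hv => by simp [tv_apply, hU v hv _ u.2],
    fun z => by simpa [tv_apply] using U.smul_mem _ u.2⟩
  let s : U → U → RS B U := fun u v => ⟨sS hA U (u, v),
    fun w hw => by simp [sS_apply hA hU, hU w hw _ u.2, hU w hw _ v.2], fun z => by
      simpa [sS_apply hA hU, add_assoc] using U.add_mem (U.smul_mem _ v.2) (U.smul_mem _ u.2)⟩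
  have hst : ∀ u v c, t (u + v) c = t u c * t v c * s u (c • v) := fun u v c =>
    Subtype.ext (SG.ext fun z => by
      change _ = (tv hA u c).1 ((tv hA v c).1 ((sS hA U (u, c • v)).1 z))
      simp only [t, tv_apply, sS_apply hA hU, map_add, map_smul, Submodule.coe_add, Submodule.coe_smul,
        LinearMap.add_apply, LinearMap.smul_apply, hU _ u.2 _ v.2, hU _ v.2 _ u.2, hA.self_eq_zero,
        smul_eq_mul]
      module)
  let O : Finset (QuadraticForm F U) := {Q | ∃ β, Wt ρ x β ≠ ⊥ ∧ ∀ u c, β (t u c) = ψ F (Q u * c)}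
  have hO : O.card ≤ finrank ℂ W := by
    choose! β h1 h3 using fun Q (hQ : Q ∈ O) => (Finset.mem_filter.1 hQ).2
    have := card_mul_le (ρ := ρ) hx O β (k := 1) (fun Q hQ Q' hQ' e => QuadraticMap.ext fun u =>
      eq_of_ψ fun c => by rw [← h3 Q hQ, ← h3 Q' hQ', e]) fun Q hQ => by
        have := Submodule.nontrivial_iff_ne_bot.2 (h1 Q hQ)
        exact finrank_pos
    simpa using this
  obtain ⟨u, v, huv⟩ : ∃ u v, ρ (x (s u v)) ≠ 1 := by
    by_contra hne
    push Not at hne
    obtain ⟨g, hg⟩ := hρ
    rcases SpSimple.normal_le_center_or hB hA (MonoidHom.ker ρ.toHomUnits) with h | h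
    · obtain ⟨f, hf⟩ := exists_linearIndependent_of_le_finrank hn
      have h3 : sS hA U (f 0, f 1) = 1 := by
        rcases (SpSimple.mem_center_iff hB hA).1 (h (MonoidHom.mem_ker.2 (Units.ext
          (hne (f 0) (f 1))))) with h | h
        · exact h
        · refine Eq.trans h (SG.ext fun z => ?_)
          rw [SpSimple.negSG_apply, SG.one_apply, neg_eq_iff_add_eq_zero, ← two_smul F, h2, zero_smul]
      obtain ⟨z, hz⟩ := exists_one hB hA.isRefl (u := f 0) (by simpa using hf.ne_zero 0)
      have h4 := congrArg (fun g : SG B => g.1 z) h3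
      simp only [sS_apply hA hU, SG.one_apply, add_assoc, add_eq_left] at h4
      have h5 := Fintype.linearIndependent_iff.1 hf ![B z (f 1), B z (f 0)] (Subtype.ext (by
        simpa [add_comm] using h4)) 1
      have h6 := hA.neg_eq z (f 0)
      simp only [Matrix.cons_val_one, Matrix.cons_val_zero] at h5
      rw [h5, hz] at h6
      simp at h6
    · exact hg (congrArg Units.val (MonoidHom.mem_ker.1 (h (hc ▸ Subgroup.mem_top g))))
  obtain ⟨β, h1, hβ⟩ := exists_wt hx huv
  have hm : ∀ g h, β (g * h) = β g * β h := fun g h => (wt_mul hβ rfl).symm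
  choose Q hQ using fun u : U => exists_eq_ψ' (fun c => β (t u c)) (wt_one hβ (tv_zero hA _))
    fun a b => (wt_mul hβ (tv_add hA _ a b).symm).symm
  have hp : ∀ u v c, β (s u (c • v)) = ψ F (polar Q u v * c) := fun u v c => by
    have := hQ (u + v) c
    rw [hst, hm, hm, hQ, hQ, ← ψ_add] at this
    refine mul_left_cancel₀ (ψ_ne_zero (Q u * c + Q v * c)) (this.trans ?_)
    rw [← ψ_add, polar]; congr 1; ring
  let Q' : QuadraticForm F U := QuadraticMap.ofPolar Q
    (fun a u => eq_of_ψ fun c => by
      rw [← hQ, wt_eq hβ (j := t u (a ^ 2 * c)) (tv_smul hA _ a c), hQ, smul_eq_mul]; congr 1; ring)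
    (fun u u' v => eq_of_ψ fun c => by
      rw [polar_comm, polar_comm _ u, polar_comm _ u', add_mul, ψ_add, ← hp, ← hp, ← hp, smul_add]
      exact (wt_mul hβ (H.add _ _ _)).symm)
    fun a u v => eq_of_ψ fun c => by
      rw [polar_comm, polar_comm _ u, ← hp, smul_smul, hp, smul_eq_mul]; congr 1; ring
  refine (orbit_bound h2 O (fun Q hQ γ hγ => ?_) (Q := Q') (u := u) (v := v)
    (Finset.mem_filter.2 ⟨Finset.mem_univ _, β, hβ, hQ⟩) fun h => h1 ?_).trans
    (Nat.mul_le_mul_left _ hO)
  · obtain ⟨β, h1, h3⟩ := (Finset.mem_filter.1 hQ).2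
    obtain ⟨g, hg⟩ := mem_ΓS hB hA hU γ hγ
    let π : RS B U → RS B U := fun r => ⟨g * r * g⁻¹, fun u hu => by
        obtain ⟨w, hw⟩ := Finite.injective_iff_surjective.1 hγ ⟨u, hu⟩
        have : u = g.1 w := by rw [hg, hw]
        rw [this, SG.mul_apply, SG.mul_apply, SG.inv_apply, r.2.1 _ w.2], fun z => by
        have := hg ⟨_, r.2.2 ((g⁻¹).1 z)⟩
        rw [map_sub, SG.apply_inv] at this
        exact this ▸ (γ _).2⟩
    refine Finset.mem_filter.2 ⟨Finset.mem_univ _, β ∘ π, Wt_ne_bot (g := g⁻¹)
      (fun r => by simp [x, π, mul_assoc]) h1, fun u c => ?_⟩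
    rw [QuadraticMap.comp_apply, ← h3, Function.comp_apply]
    congr 1
    exact Subtype.ext ((conj_tv hA g u c).trans (by rw [hg]))
  · have := hp u v 1
    rw [one_smul] at this
    rw [this, show polar Q u v = 0 from h]; simp

end Cfsg.Agent.Classical.LS
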